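import Groth.Agent.WittHomLib.Vec
import Groth.Agent.GaSplit.CocycleForm
import Mathlib

/-! The carries of addition of truncated Witt vectors. -/

set_option autoImplicit false
universe u

namespace Groth.Agent.WittExtLib

open Groth.Agent.GaSplit

variable {p : ℕ} [hp : Fact p.Prime] {R : Type u} [CommRing R]

/-- A number as a Witt vector of length one. -/
def single (a : R) : TruncatedWittVector p 1 R := TruncatedWittVector.mk p fun _ => a

@[simp] theorem coeff_single (a : R) (i : Fin 1) : (single (p := p) a).coeff i = a :=
  TruncatedWittVector.coeff_mk _ _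

theorem coeff_add_one (x y : TruncatedWittVector p 1 R) : (x + y).coeff 0 = x.coeff 0 + y.coeff 0 := by
  obtain ⟨X, rfl⟩ := WittVector.truncate_surjective p 1 R x
  obtain ⟨Y, rfl⟩ := WittVector.truncate_surjective p 1 R y
  rw [← map_add]
  simp only [WittVector.coeff_truncate, Fin.val_zero, WittVector.add_coeff_zero]

theorem eq_single (x : TruncatedWittVector p 1 R) : x = single (x.coeff 0) :=
  TruncatedWittVector.ext fun i => by rw [coeff_single, Subsingleton.elim i 0]

variable (p R) in
/-- Length one Witt vectors are numbers. -/
def sc : TruncatedWittVector p 1 R ≃+ R where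
  toFun x := x.coeff 0
  invFun := single
  left_inv x := (eq_single x).symm
  right_inv a := coeff_single a 0
  map_add' := coeff_add_one

@[simp] theorem sc_apply (x : TruncatedWittVector p 1 R) : sc p R x = x.coeff 0 := rfl
@[simp] theorem sc_symm_apply (a : R) : (sc p R).symm a = single a := rfl

theorem single_add (a b : R) : single (p := p) (a + b) = single a + single b := map_add (sc p R).symm a b

theorem single_zero : single (p := p) (0 : R) = 0 := map_zero (sc p R).symm

/-- Append a zero. -/
def ext0 {n : ℕ} (x : TruncatedWittVector p n R) : TruncatedWittVector p (n + 1) R :=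
  TruncatedWittVector.mk p (Fin.snoc x.coeff 0)

/-- The last coordinate. -/
def last {n : ℕ} (z : TruncatedWittVector p (n + 1) R) : R := z.coeff (Fin.last n)

theorem coeff_ext0_castSucc {n : ℕ} (x : TruncatedWittVector p n R) (i : Fin n) :
    (ext0 x).coeff i.castSucc = x.coeff i := by
  rw [ext0, TruncatedWittVector.coeff_mk, Fin.snoc_castSucc]

theorem last_ext0 {n : ℕ} (x : TruncatedWittVector p n R) : last (ext0 x) = 0 := by
  rw [last, ext0, TruncatedWittVector.coeff_mk, Fin.snoc_last]

theorem truncate_ext0 {n : ℕ} (x : TruncatedWittVector p n R) :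
    TruncatedWittVector.truncate (Nat.le_succ n) (ext0 x) = x :=
  TruncatedWittVector.ext fun i => by
    rw [TruncatedWittVector.coeff_truncate]
    exact coeff_ext0_castSucc x i

/-- Adding vectors with disjoint supports. -/
theorem coeff_add_disjoint {N : ℕ} (x y : TruncatedWittVector p N R)
    (h : ∀ i : Fin N, x.coeff i = 0 ∨ y.coeff i = 0) (i : Fin N) :
    (x + y).coeff i = x.coeff i + y.coeff i := by
  let X : WittVector p R := WittVector.mk p fun j => if hj : j < N then x.coeff ⟨j, hj⟩ else 0
  let Y : WittVector p R := WittVector.mk p fun j => if hj : j < N then y.coeff ⟨j, hj⟩ else 0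
  have hX : WittVector.truncate N X = x := TruncatedWittVector.ext fun j => by
    simp [X, WittVector.coeff_truncate]
  have hY : WittVector.truncate N Y = y := TruncatedWittVector.ext fun j => by
    simp [Y, WittVector.coeff_truncate]
  conv_lhs => rw [← hX, ← hY, ← map_add, WittVector.coeff_truncate]
  rw [WittVector.coeff_add_of_disjoint]
  · simp [X, Y]
  · intro j
    by_cases hj : j < N
    · simpa [X, Y, hj] using h ⟨j, hj⟩
    · exact Or.inl (by simp [X, hj])

/-- The shift of a number to the last coordinate. -/
noncomputable abbrev top (n : ℕ) (a : R) : TruncatedWittVector p (n + 1) R :=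
  WittGrp.shift p (Nat.le_add_left 1 n) (single a)

theorem top_add (n : ℕ) (a b : R) : top (p := p) n (a + b) = top n a + top n b := by
  rw [top, single_add, map_add]

theorem coeff_top_last (n : ℕ) (a : R) : last (top (p := p) n a) = a := by
  rw [last, WittGrp.coeff_shift, dif_pos (by simp)]
  simp

theorem coeff_top_castSucc (n : ℕ) (a : R) (i : Fin n) : (top (p := p) n a).coeff i.castSucc = 0 := by
  rw [WittGrp.coeff_shift, dif_neg (by have := i.isLt; simp)]

theorem truncate_top (n : ℕ) (a : R) :
    TruncatedWittVector.truncate (Nat.le_succ n) (top (p := p) n a) = 0 :=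
  TruncatedWittVector.ext fun i => by
    rw [TruncatedWittVector.coeff_truncate, TruncatedWittVector.coeff_zero]
    exact coeff_top_castSucc n a i

theorem coeff_ext0_add_top {n : ℕ} (x : TruncatedWittVector p n R) (a : R) (i : Fin (n + 1)) :
    (ext0 x + top n a).coeff i = (ext0 x).coeff i + (top (p := p) n a).coeff i := by
  refine coeff_add_disjoint _ _ (fun j => ?_) i
  induction j using Fin.lastCases with
  | last => exact Or.inl (last_ext0 x)
  | cast j => exact Or.inr (coeff_top_castSucc n a j)

theorem last_ext0_add_top {n : ℕ} (x : TruncatedWittVector p n R) (a : R) :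
    last (ext0 x + top n a) = a := by
  rw [last, coeff_ext0_add_top]
  show last (ext0 x) + last (top (p := p) n a) = a
  rw [last_ext0, coeff_top_last, zero_add]

theorem decomp {n : ℕ} (z : TruncatedWittVector p (n + 1) R) :
    ext0 (TruncatedWittVector.truncate (Nat.le_succ n) z) + top n (last z) = z := by
  refine TruncatedWittVector.ext fun i => ?_
  induction i using Fin.lastCases with
  | last => exact last_ext0_add_top _ _
  | cast i =>
    rw [coeff_ext0_add_top, coeff_top_castSucc, add_zero, coeff_ext0_castSucc, TruncatedWittVector.coeff_truncate]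
    rfl

/-- The carry of addition in length `n`. -/
noncomputable def carry {n : ℕ} (x y : TruncatedWittVector p n R) : R := last (ext0 x + ext0 y)

theorem ext0_add_ext0 {n : ℕ} (x y : TruncatedWittVector p n R) :
    ext0 x + ext0 y = ext0 (x + y) + top n (carry x y) := by
  conv_lhs => rw [← decomp (ext0 x + ext0 y)]
  rw [map_add, truncate_ext0, truncate_ext0]
  rfl

theorem last_add {n : ℕ} (x y : TruncatedWittVector p (n + 1) R) :
    last (x + y) = carry (TruncatedWittVector.truncate (Nat.le_succ n) x)
      (TruncatedWittVector.truncate (Nat.le_succ n) y) + last x + last y := by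
  conv_lhs => rw [← decomp x, ← decomp y, add_add_add_comm, ext0_add_ext0, ← top_add, add_assoc,
    ← top_add, last_ext0_add_top]
  ring

theorem coeff_one_teich_add {A : Type u} [CommRing A] (a b : A) :
    (WittVector.teichmuller p a + WittVector.teichmuller p b).coeff 1 = -cpOf p a b := by
  have key : ∀ {A : Type} [CommRing A] [IsDomain A] (_ : (p : A) ≠ 0) (a b : A),
      (WittVector.teichmuller p a + WittVector.teichmuller p b).coeff 1 = -cpOf p a b := by
    intro A _ _ hne a b
    obtain ⟨X, hX⟩ : ∃ X, X = WittVector.teichmuller p a + WittVector.teichmuller p b := ⟨_, rfl⟩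
    have h := congrArg (WittVector.ghostComponent 1) hX
    rw [map_add, WittVector.ghostComponent_teichmuller, WittVector.ghostComponent_teichmuller, pow_one,
      WittVector.ghostComponent_apply, wittPolynomial_one] at h
    have h0 : X.coeff 0 = a + b := by
      rw [hX, WittVector.add_coeff_zero, WittVector.teichmuller_coeff_zero, WittVector.teichmuller_coeff_zero]
    simp [h0] at h
    rw [← hX]
    apply mul_left_cancel₀ hne
    linear_combination h + mul_cpOf (p := p) a b
  let φ := MvPolynomial.eval₂Hom (Int.castRingHom A) ![a, b]
  have h := congrArg φ (key (A := MvPolynomial (Fin 2) ℤ) (by exact_mod_cast hp.out.ne_zero)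
    (MvPolynomial.X 0) (MvPolynomial.X 1))
  rw [← WittVector.map_coeff, map_add, WittVector.map_teichmuller, WittVector.map_teichmuller, map_neg,
    map_cpOf] at h
  simpa [φ] using h

theorem truncate_teichmuller_two (a : R) :
    WittVector.truncate 2 (WittVector.teichmuller p a) = ext0 (single a) := by
  refine TruncatedWittVector.ext fun i => ?_
  rw [WittVector.coeff_truncate]
  induction i using Fin.lastCases with
  | last =>
    exact (WittVector.teichmuller_coeff_pos p a 1 Nat.one_pos).trans (last_ext0 (single (p := p) a)).symm
  | cast i =>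
    rw [coeff_ext0_castSucc, coeff_single, Fin.val_castSucc, show (i : ℕ) = 0 by omega,
      WittVector.teichmuller_coeff_zero]

theorem carry_single (a b : R) : carry (single (p := p) a) (single b) = -cpOf p a b := by
  rw [carry, ← truncate_teichmuller_two, ← truncate_teichmuller_two, ← map_add, last,
    WittVector.coeff_truncate]
  exact coeff_one_teich_add a b

theorem ext0_shift {n : ℕ} (a : R) :
    ext0 (WittGrp.shift p (Nat.le_add_left 1 n) (single a)) =
      WittGrp.shift p (Nat.le_add_left 2 n) (ext0 (single a)) := by
  refine TruncatedWittVector.ext fun i => ?_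
  induction i using Fin.lastCases with
  | last =>
    show last (ext0 _) = _
    rw [last_ext0, WittGrp.coeff_shift, dif_pos (by simp)]
    refine (last_ext0 (single (p := p) a)).symm.trans ?_
    rw [last]; congr 1; exact Fin.ext (by simp)
  | cast i =>
    rw [coeff_ext0_castSucc, WittGrp.coeff_shift, WittGrp.coeff_shift]
    split_ifs with h1 h2 h3
    · rw [show (⟨(i.castSucc : ℕ) - (n + 2 - 2), _⟩ : Fin 2) = (0 : Fin 1).castSucc from
        Fin.ext (by simp at h1 h2 ⊢; omega), coeff_ext0_castSucc]
      simp
    · simp at h1 h2; omega
    · simp at h1 h3; omega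
    · rfl

theorem carry_top (n : ℕ) (a b : R) :
    carry (top (p := p) n a) (top n b) = -cpOf p a b := by
  rw [carry, ext0_shift, ext0_shift, ← map_add, last, WittGrp.coeff_shift, dif_pos (by simp),
    ← carry_single, carry, last]
  congr 1
  exact Fin.ext (by simp)

/-- The Teichmüller vector of length `n + 1`. -/
def tau (n : ℕ) (a : R) : TruncatedWittVector p (n + 1) R :=
  TruncatedWittVector.mk p (Fin.cons a fun _ => 0)

theorem coeff_zero_tau (n : ℕ) (a : R) : (tau (p := p) n a).coeff 0 = a := by
  rw [tau, TruncatedWittVector.coeff_mk, Fin.cons_zero]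

theorem coeff_zero_add {n : ℕ} (x y : TruncatedWittVector p (n + 1) R) :
    (x + y).coeff 0 = x.coeff 0 + y.coeff 0 := by
  obtain ⟨X, rfl⟩ := WittVector.truncate_surjective p (n + 1) R x
  obtain ⟨Y, rfl⟩ := WittVector.truncate_surjective p (n + 1) R y
  rw [← map_add]
  simp only [WittVector.coeff_truncate, Fin.val_zero, WittVector.add_coeff_zero]

/-- The first coordinate, as a homomorphism. -/
noncomputable def head (n : ℕ) : TruncatedWittVector p (n + 1) R →+ R :=
  AddMonoidHom.mk' (fun x => x.coeff 0) coeff_zero_add

@[simp] theorem head_apply {n : ℕ} (x : TruncatedWittVector p (n + 1) R) : head n x = x.coeff 0 := rfl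

/-- Drop the first coordinate. -/
def unshift {n : ℕ} (x : TruncatedWittVector p (n + 1) R) : TruncatedWittVector p n R :=
  TruncatedWittVector.mk p fun i => x.coeff i.succ

theorem shift_unshift {n : ℕ} {x : TruncatedWittVector p (n + 1) R} (h : x.coeff 0 = 0) :
    WittGrp.shift p (Nat.le_succ n) (unshift x) = x := by
  refine TruncatedWittVector.ext fun i => ?_
  rw [WittGrp.coeff_shift]
  split_ifs with hi
  · rw [unshift, TruncatedWittVector.coeff_mk]
    congr 1
    exact Fin.ext (by simp at hi ⊢; omega)
  · rw [show i = 0 from Fin.ext (by simp at hi ⊢; omega), h]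

/-- The carry of addition in length one, as a vector of length `n + 1`. -/
noncomputable def carryV (n : ℕ) (a b : R) : TruncatedWittVector p (n + 1) R :=
  unshift (tau (n + 1) a + tau (n + 1) b - tau (n + 1) (a + b))

theorem shift_carryV (n : ℕ) (a b : R) :
    WittGrp.shift p (Nat.le_succ (n + 1)) (carryV (p := p) n a b) =
      tau (n + 1) a + tau (n + 1) b - tau (n + 1) (a + b) := by
  refine shift_unshift ?_
  show head (p := p) (R := R) (n + 1) (tau (n + 1) a + tau (n + 1) b - tau (n + 1) (a + b)) = 0
  rw [map_sub, map_add]
  simp [coeff_zero_tau]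

theorem head_carryV (n : ℕ) (a b : R) : (carryV (p := p) n a b).coeff 0 = -cpOf p a b := by
  have h2 : ∀ x, TruncatedWittVector.truncate (show 2 ≤ n + 1 + 1 by omega) (tau (p := p) (n + 1) x) =
      ext0 (single (x : R)) := by
    intro x
    refine TruncatedWittVector.ext fun i => ?_
    rw [TruncatedWittVector.coeff_truncate]
    induction i using Fin.lastCases with
    | last =>
      show _ = last (ext0 (single (p := p) x))
      rw [last_ext0, tau, TruncatedWittVector.coeff_mk,
        show Fin.castLE (show 2 ≤ n + 1 + 1 by omega) (Fin.last 1) = (0 : Fin (n + 1)).succ from Fin.ext (by simp),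
        Fin.cons_succ]
    | cast i =>
      rw [coeff_ext0_castSucc, coeff_single, Subsingleton.elim i 0]
      exact coeff_zero_tau (n + 1) x
  have h3 := congrArg (TruncatedWittVector.truncate (show 2 ≤ n + 1 + 1 by omega)) (shift_carryV (p := p) n a b)
  rw [map_sub, map_add, h2, h2, h2, ext0_add_ext0, single_add, add_sub_cancel_left, carry_single] at h3
  have h4 := congrArg (fun z : TruncatedWittVector p 2 R => z.coeff (Fin.last 1)) h3
  simp only [TruncatedWittVector.coeff_truncate, WittGrp.coeff_shift] at h4
  rw [dif_pos (by simp)] at h4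
  refine Eq.trans ?_ (h4.trans ?_)
  · congr 1; exact Fin.ext (by simp)
  · simp

end Groth.Agent.WittExtLib
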