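import Groth.Agent.WittHomLib.Isog
import Groth.Agent.WittExtLib.Carry
import Groth.Agent.TorsorLift.Descent
import Groth.Agent.FpqcDesc.Basic
import Mathlib

/-! Extensions by Witt groups have scheme-theoretic sections over Witt groups. -/

set_option autoImplicit false
set_option backward.isDefEq.respectTransparency false
universe u

open CategoryTheory CategoryTheory.Limits AlgebraicGeometry Opposite MonObj MonoidalCategory CartesianMonoidalCategory
open Groth.Agent.WittHomLib TensorProduct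

noncomputable section

namespace Groth.Agent.WittExtLib

variable {p : ℕ} [hp : Fact p.Prime]

theorem truncMap_tau {R R' : Type u} [CommRing R] [CommRing R'] (n : ℕ) (f : R →+* R') (a : R) :
    WittGrp.truncMap p (n + 1) f (tau n a) = tau n (f a) :=
  TruncatedWittVector.ext fun i => by
    rw [WittGrp.coeff_truncMap, tau, tau, TruncatedWittVector.coeff_mk, TruncatedWittVector.coeff_mk]
    induction i using Fin.cases with
    | zero => simp
    | succ i => simp

theorem truncMap_truncMap {R R' R'' : Type u} [CommRing R] [CommRing R'] [CommRing R''] {n : ℕ}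
    (f : R →+* R') (g : R' →+* R'') (x : TruncatedWittVector p n R) :
    WittGrp.truncMap p n g (WittGrp.truncMap p n f x) = WittGrp.truncMap p n (g.comp f) x := by
  rw [WittGrp.truncMap_comp]; rfl

theorem aux₁ {G : Type*} [CommGroup G] (a b c : G) : b * a⁻¹ * (c * b⁻¹) = c * a⁻¹ := by
  rw [_root_.mul_comm, ← _root_.mul_assoc, inv_mul_cancel_right]

theorem aux₂ {G : Type*} [CommGroup G] (a b u v : G) :
    a * u⁻¹ * (b * v⁻¹)⁻¹ = (b * a⁻¹)⁻¹ * (v * u⁻¹) := by
  rw [mul_inv_rev, inv_inv, mul_inv_rev, inv_inv]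
  ac_rfl

section Amitsur

variable (A S : Type u) [CommRing A] [CommRing S] [Algebra A S]

/-- The right inclusion. -/
abbrev inR : S →+* S ⊗[A] S := (Algebra.TensorProduct.includeRight : S →ₐ[A] S ⊗[A] S).toRingHom
/-- The left inclusion. -/
abbrev inL : S →+* S ⊗[A] S := (Algebra.TensorProduct.includeLeft : S →ₐ[A] S ⊗[A] S).toRingHom
/-- The face omitting the middle factor. -/
abbrev f13 : S ⊗[A] S →+* S ⊗[A] (S ⊗[A] S) :=
  (Algebra.TensorProduct.map (AlgHom.id A S) (Algebra.TensorProduct.includeRight : S →ₐ[A] S ⊗[A] S)).toRingHom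
/-- The face omitting the last factor. -/
abbrev f12 : S ⊗[A] S →+* S ⊗[A] (S ⊗[A] S) :=
  (Algebra.TensorProduct.map (AlgHom.id A S) (Algebra.TensorProduct.includeLeft : S →ₐ[A] S ⊗[A] S)).toRingHom
/-- The face omitting the first factor. -/
abbrev f23 : S ⊗[A] S →+* S ⊗[A] (S ⊗[A] S) :=
  (Algebra.TensorProduct.includeRight : S ⊗[A] S →ₐ[A] S ⊗[A] (S ⊗[A] S)).toRingHom

theorem f13_inR : (f13 A S).comp (inR A S) = (f23 A S).comp (inR A S) := RingHom.ext fun t => by simp
theorem f13_inL : (f13 A S).comp (inL A S) = (f12 A S).comp (inL A S) := RingHom.ext fun t => by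
  simp [Algebra.TensorProduct.one_def]
theorem f12_inR : (f12 A S).comp (inR A S) = (f23 A S).comp (inL A S) := RingHom.ext fun t => by simp

variable [Module.FaithfullyFlat A S]

theorem exists_witt_d1 : ∀ (m : ℕ) (x : TruncatedWittVector p m (S ⊗[A] S))
    (_ : WittGrp.truncMap p m (f13 A S) x =
      WittGrp.truncMap p m (f12 A S) x + WittGrp.truncMap p m (f23 A S) x),
    ∃ y : TruncatedWittVector p m S, WittGrp.truncMap p m (inR A S) y - WittGrp.truncMap p m (inL A S) y = x := by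
  intro m
  induction m with
  | zero => exact fun x _ => ⟨0, TruncatedWittVector.ext fun i => i.elim0⟩
  | succ m ih =>
    intro x h
    have hh := congrArg (head (p := p) (R := S ⊗[A] (S ⊗[A] S)) m) h
    simp only [map_add, head_apply, WittGrp.coeff_truncMap] at hh
    obtain ⟨y₀, hy₀⟩ := TorsorLift.exists_d1_eq (x.coeff 0) hh
    rw [TorsorLift.d1_apply] at hy₀
    let x' := x - (WittGrp.truncMap p (m + 1) (inR A S) (tau m y₀) - WittGrp.truncMap p (m + 1) (inL A S) (tau m y₀))
    have hx0 : x'.coeff 0 = 0 := by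
      show head (p := p) (R := S ⊗[A] S) m x' = 0
      simp only [x', map_sub, head_apply, WittGrp.coeff_truncMap, coeff_zero_tau]
      rw [← hy₀]
      exact sub_self _
    have hx' : WittGrp.truncMap p (m + 1) (f13 A S) x' =
        WittGrp.truncMap p (m + 1) (f12 A S) x' + WittGrp.truncMap p (m + 1) (f23 A S) x' := by
      simp only [x', map_sub, truncMap_truncMap, f13_inR, f13_inL, f12_inR, h]
      abel
    rw [← shift_unshift hx0, WittGrp.truncMap_shift, WittGrp.truncMap_shift, WittGrp.truncMap_shift, ← map_add] at hx'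
    obtain ⟨y', hy'⟩ := ih (unshift x') (shift_inj _ hx')
    refine ⟨tau m y₀ + WittGrp.shift p (Nat.le_succ m) y', ?_⟩
    have h1 : x = x' + (WittGrp.truncMap p (m + 1) (inR A S) (tau m y₀) -
        WittGrp.truncMap p (m + 1) (inL A S) (tau m y₀)) := (sub_add_cancel _ _).symm
    rw [h1, ← shift_unshift hx0, ← hy', map_sub, map_add, map_add, WittGrp.truncMap_shift, WittGrp.truncMap_shift]
    abel

end Amitsur

variable {k : Type u} [Field k]

local notation "B" => Spec (CommRingCat.of k)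

/-- Extensions of Witt groups by Witt groups have normalised sections. -/
theorem exists_section {m n : ℕ} {E : Over B} [GrpObj E] [IsCommMonObj E] [QuasiCompact E.hom]
    (i : WittGrp.W p m B ⟶ E) [IsMonHom i] [IsClosedImmersion i.left]
    (π : E ⟶ WittGrp.W p n B) [IsMonHom π] [Surjective π.left] [Flat π.left] (hker : AlgGrp.IsKernel i π) :
    ∃ s : WittGrp.W p n B ⟶ E, s ≫ π = 𝟙 _ ∧
      ∀ (T : Over B), (1 : T ⟶ WittGrp.W p n B) ≫ s = 1 := by
  haveI : Mono i := Over.mono_of_mono_left i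
  have hiπ : i ≫ π = 1 := hker.w.trans Hom.one_def.symm
  have hlift : ∀ {T : Over B} (a b : T ⟶ E), a ≫ π = b ≫ π → ∃ w, w ≫ i = b * a⁻¹ := by
    intro T a b h
    exact ⟨hker.lift (b * a⁻¹) (toUnit T) (by
      rw [MonObj.mul_comp, GrpObj.inv_comp, h, mul_inv_cancel, Hom.one_def]), hker.lift_fst _ _ _⟩
  haveI : IsAffineHom (WittGrp.W p n B).hom := isAffineHom_W (p := p) (k := k) n
  haveI : IsAffineHom (WittGrp.W p m B).hom := isAffineHom_W (p := p) (k := k) m
  haveI : QuasiCompact (π.left ≫ (WittGrp.W p n B).hom) := by rw [Over.w π]; infer_instance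
  haveI : QuasiCompact π.left := QuasiCompact.of_comp π.left (WittGrp.W p n B).hom
  -- the torsor
  let sh : E ⊗ WittGrp.W p m B ⟶ E := fst _ _ * (snd _ _ ≫ i)
  have hshπ : sh ≫ π = fst _ _ ≫ π := by
    rw [show sh = _ from rfl, MonObj.mul_comp, Category.assoc, hiπ, MonObj.comp_one, _root_.mul_one]
  have hpb : IsPullback (fst E (WittGrp.W p m B)) sh π π := by
    refine ⟨⟨hshπ.symm⟩, ⟨PullbackCone.IsLimit.mk _
      (fun s => lift s.fst (hlift s.fst s.snd s.condition).choose) (fun s => lift_fst _ _) (fun s => ?_)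
      (fun s l h1 h2 => ?_)⟩⟩
    · rw [show sh = _ from rfl, MonObj.comp_mul, lift_fst, ← Category.assoc, lift_snd,
        (hlift s.fst s.snd s.condition).choose_spec, _root_.mul_comm, _root_.inv_mul_cancel_right]
    · refine CartesianMonoidalCategory.hom_ext _ _ (by rw [lift_fst, h1]) ?_
      rw [lift_snd, ← cancel_mono i, (hlift s.fst s.snd s.condition).choose_spec, ← h2, ← h1,
        show sh = _ from rfl, MonObj.comp_mul, Category.assoc]
      exact (mul_inv_cancel_comm _ _).symm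
  haveI : IsAffineHom (fst E (WittGrp.W p m B)).left := by
    rw [Over.fst_left]
    exact MorphismProperty.pullback_fst _ _ inferInstance
  haveI : IsAffineHom π.left :=
    FpqcDesc.isAffineHom_descends.of_isPullback (hpb.map (Over.forget _))
      ⟨⟨(inferInstance : Surjective π.left), (inferInstance : Flat π.left)⟩, (inferInstance : QuasiCompact π.left)⟩
      (inferInstanceAs (IsAffineHom (fst E (WittGrp.W p m B)).left))
  haveI : IsAffine (WittGrp.W p n B).left := isAffine_of_isAffineHom (WittGrp.W p n B).hom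
  haveI : IsAffine E.left := isAffine_of_isAffineHom π.left
  let A : Type u := Γ((WittGrp.W p n B).left, ⊤)
  let S : Type u := Γ(E.left, ⊤)
  letI : Algebra A S := π.left.appTop.hom.toAlgebra
  let φ : CommRingCat.of A ⟶ CommRingCat.of S := CommRingCat.ofHom (algebraMap A S)
  have hnat : E.left.isoSpec.hom ≫ Spec.map φ = π.left ≫ (WittGrp.W p n B).left.isoSpec.hom :=
    Scheme.isoSpec_hom_naturality π.left
  haveI : Module.FaithfullyFlat A S := by
    rw [← RingHom.faithfullyFlat_algebraMap_iff]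
    refine (flat_and_surjective_SpecMap_iff φ).mp ?_
    rw [show Spec.map φ = E.left.isoSpec.inv ≫ π.left ≫ (WittGrp.W p n B).left.isoSpec.hom by
      rw [← hnat, Iso.inv_hom_id_assoc]]
    exact ⟨inferInstance, inferInstance⟩
  let q : ∀ {R : Type u} [CommRing R], (S →+* R) → (Spec (CommRingCat.of R) ⟶ E.left) :=
    fun f => Spec.map (CommRingCat.ofHom f) ≫ E.left.isoSpec.inv
  have hqπ : ∀ {R : Type u} [CommRing R] (f g : S →+* R),
      f.comp (algebraMap A S) = g.comp (algebraMap A S) → q f ≫ π.left = q g ≫ π.left := by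
    intro R _ f g h
    have e : E.left.isoSpec.inv ≫ π.left = Spec.map φ ≫ (WittGrp.W p n B).left.isoSpec.inv := by
      rw [Iso.inv_comp_eq, ← Category.assoc, hnat, Category.assoc, Iso.hom_inv_id, Category.comp_id]
    simp only [q, Category.assoc, e]
    rw [← Spec.map_comp_assoc, ← Spec.map_comp_assoc, ← CommRingCat.ofHom_comp, ← CommRingCat.ofHom_comp, h]
  let T2 : Over B := Over.mk (q (inL A S) ≫ E.hom)
  have hcompat : (inL A S).comp (algebraMap A S) = (inR A S).comp (algebraMap A S) :=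
    RingHom.ext fun a => ((Algebra.TensorProduct.includeLeft : S →ₐ[A] S ⊗[A] S).commutes a).trans
      ((Algebra.TensorProduct.includeRight : S →ₐ[A] S ⊗[A] S).commutes a).symm
  let e₁ : T2 ⟶ E := Over.homMk (q (inL A S)) rfl
  let e₂ : T2 ⟶ E := Over.homMk (q (inR A S)) (by
    show q (inR A S) ≫ E.hom = q (inL A S) ≫ E.hom
    rw [← Over.w π, ← Category.assoc, ← Category.assoc, hqπ _ _ hcompat])
  have he : e₁ ≫ π = e₂ ≫ π := Over.OverMorphism.ext (hqπ _ _ hcompat)
  obtain ⟨D, hD⟩ := hlift e₁ e₂ he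
  let T3 : Over B := Over.mk (q ((f12 A S).comp (inL A S)) ≫ E.hom)
  have hmk : ∀ (f : S ⊗[A] S →+* S ⊗[A] (S ⊗[A] S)),
      (f.comp (inL A S)).comp (algebraMap A S) = ((f12 A S).comp (inL A S)).comp (algebraMap A S) →
      ∃ t : T3 ⟶ T2, t.left = Spec.map (CommRingCat.ofHom f) := by
    intro f hf
    refine ⟨Over.homMk (Spec.map (CommRingCat.ofHom f)) ?_, rfl⟩
    show Spec.map (CommRingCat.ofHom f) ≫ q (inL A S) ≫ E.hom = q ((f12 A S).comp (inL A S)) ≫ E.hom
    have e : Spec.map (CommRingCat.ofHom f) ≫ q (inL A S) = q (f.comp (inL A S)) := by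
      simp only [q, CommRingCat.ofHom_comp, Spec.map_comp, Category.assoc]
    rw [← Category.assoc, e, ← Over.w π, ← Category.assoc, ← Category.assoc, hqπ _ _ hf]
  obtain ⟨t13, ht13⟩ := hmk (f13 A S) (by rw [f13_inL])
  obtain ⟨t12, ht12⟩ := hmk (f12 A S) rfl
  obtain ⟨t23, ht23⟩ := hmk (f23 A S) (by
    rw [← f12_inR, RingHom.comp_assoc, RingHom.comp_assoc, hcompat])
  have hte : ∀ (t : T3 ⟶ T2) (f : S ⊗[A] S →+* S ⊗[A] (S ⊗[A] S)), t.left = Spec.map (CommRingCat.ofHom f) →
      (t ≫ e₁).left = q (f.comp (inL A S)) ∧ (t ≫ e₂).left = q (f.comp (inR A S)) := by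
    intro t f ht
    simp only [Over.comp_left, ht, e₁, e₂, Over.homMk_left, q, CommRingCat.ofHom_comp, Spec.map_comp,
      Category.assoc, and_self]
  have hcoc : t13 ≫ D = (t12 ≫ D) * (t23 ≫ D) := by
    rw [← cancel_mono i, MonObj.mul_comp, Category.assoc, Category.assoc, Category.assoc, hD, MonObj.comp_mul,
      MonObj.comp_mul, MonObj.comp_mul, GrpObj.comp_inv, GrpObj.comp_inv, GrpObj.comp_inv]
    have h1 : t13 ≫ e₁ = t12 ≫ e₁ := Over.OverMorphism.ext (by
      rw [(hte _ _ ht13).1, (hte _ _ ht12).1, f13_inL])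
    have h2 : t13 ≫ e₂ = t23 ≫ e₂ := Over.OverMorphism.ext (by
      rw [(hte _ _ ht13).2, (hte _ _ ht23).2, f13_inR])
    have h3 : t12 ≫ e₂ = t23 ≫ e₁ := Over.OverMorphism.ext (by
      rw [(hte _ _ ht12).2, (hte _ _ ht23).1, f12_inR])
    rw [h1, h2, h3]
    exact (aux₁ _ _ _).symm
  -- Witt vectors
  let gs : ∀ (R : Type u) [CommRing R], Γ(Spec (CommRingCat.of R), ⊤) →+* R :=
    fun R _ => (Scheme.ΓSpecIso (CommRingCat.of R)).hom.hom
  have hgs : ∀ (R : Type u) [CommRing R], Function.Injective (gs R) := fun R _ =>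
    ((ConcreteCategory.bijective_of_isIso (Scheme.ΓSpecIso (CommRingCat.of R)).hom)).1
  let X : TruncatedWittVector p m (S ⊗[A] S) := WittGrp.truncMap p m (gs (S ⊗[A] S)) (vec D)
  have hnatT : ∀ {R R' : Type u} [CommRing R] [CommRing R'] (f : R →+* R'),
      (gs R').comp (Spec.map (CommRingCat.ofHom f)).appTop.hom = f.comp (gs R) := by
    intro R R' _ _ f
    exact congrArg CommRingCat.Hom.hom (Scheme.ΓSpecIso_naturality (CommRingCat.ofHom f))
  have hX : ∀ (t : T3 ⟶ T2) (f : S ⊗[A] S →+* S ⊗[A] (S ⊗[A] S)), t.left = Spec.map (CommRingCat.ofHom f) →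
      WittGrp.truncMap p m f X = WittGrp.truncMap p m (gs (S ⊗[A] (S ⊗[A] S))) (vec (t ≫ D)) := by
    intro t f ht
    refine TruncatedWittVector.ext fun j => ?_
    rw [WittGrp.coeff_truncMap, WittGrp.coeff_truncMap, WittGrp.coeff_truncMap, coeff_comp, ht]
    exact (RingHom.congr_fun (hnatT f) _).symm
  obtain ⟨y, hy⟩ := exists_witt_d1 (p := p) A S m X (by
    rw [hX _ _ ht13, hX _ _ ht12, hX _ _ ht23, ← map_add, ← vec_mul, ← hcoc])
  let r : E ⟶ WittGrp.W p m B := ofVec y
  have hr : (e₂ ≫ r) * (e₁ ≫ r)⁻¹ = D := by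
    rw [mul_inv_eq_iff_eq_mul]
    refine vec_injective ?_
    have hinj : Function.Injective (WittGrp.truncMap p m (gs (S ⊗[A] S))) := fun a b h =>
      TruncatedWittVector.ext fun j => hgs _ (by simpa using congrArg (fun z => z.coeff j) h)
    refine hinj ?_
    rw [vec_mul, map_add]
    have hE : ∀ f : S →+* S ⊗[A] S, (gs (S ⊗[A] S)).comp (q f).appTop.hom = f := by
      intro f
      refine RingHom.ext fun a => ?_
      show gs _ ((Spec.map (CommRingCat.ofHom f) ≫ E.left.isoSpec.inv).appTop a) = f a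
      rw [Scheme.Hom.comp_appTop, CommRingCat.comp_apply]
      refine (RingHom.congr_fun (hnatT f) _).trans (congrArg f ?_)
      show (E.left.isoSpec.inv.appTop ≫ (Scheme.ΓSpecIso _).hom) a = a
      erw [show (Scheme.ΓSpecIso Γ(E.left, ⊤)).hom = E.left.isoSpec.hom.appTop from
          (Scheme.toSpecΓ_appTop E.left).symm,
        ← Scheme.Hom.comp_appTop, Iso.hom_inv_id, Scheme.Hom.id_appTop]
      rfl
    have hv : ∀ (e : T2 ⟶ E) (f : S →+* S ⊗[A] S), e.left = q f →
        WittGrp.truncMap p m (gs (S ⊗[A] S)) (vec (e ≫ r)) = WittGrp.truncMap p m f y := by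
      intro e f he'
      refine TruncatedWittVector.ext fun j => ?_
      rw [WittGrp.coeff_truncMap, WittGrp.coeff_truncMap, coeff_comp, show vec r = y from vec_ofVec y, he']
      exact RingHom.congr_fun (hE f) _
    rw [hv e₂ _ rfl, hv e₁ _ rfl]
    exact eq_add_of_sub_eq hy
  let d : E ⟶ E := 𝟙 E * (r ≫ i)⁻¹
  have hd : e₁ ≫ d = e₂ ≫ d := by
    simp only [d, MonObj.comp_mul, GrpObj.comp_inv, Category.comp_id, ← Category.assoc]
    rw [← mul_inv_eq_one, show e₁ * ((e₁ ≫ r) ≫ i)⁻¹ * (e₂ * ((e₂ ≫ r) ≫ i)⁻¹)⁻¹ =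
      (e₂ * e₁⁻¹)⁻¹ * (((e₂ ≫ r) ≫ i) * ((e₁ ≫ r) ≫ i)⁻¹) from aux₂ _ _ _ _,
      ← hD, ← GrpObj.inv_comp, ← GrpObj.inv_comp, ← MonObj.mul_comp, ← MonObj.mul_comp, hr, inv_mul_cancel,
      MonObj.one_comp]
  have hdesc : ∀ {Z : Scheme.{u}} (g₁ g₂ : Z ⟶ E.left), g₁ ≫ π.left = g₂ ≫ π.left → g₁ ≫ d.left = g₂ ≫ d.left := by
    intro Z g₁ g₂ h
    have hP := isPullback_SpecMap_of_isPushout _ _ _ _ (CommRingCat.isPushout_tensorProduct A S S)
    have hcond : (g₁ ≫ E.left.isoSpec.hom) ≫ Spec.map φ = (g₂ ≫ E.left.isoSpec.hom) ≫ Spec.map φ := by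
      rw [Category.assoc, Category.assoc, hnat, reassoc_of% h]
    let z := hP.lift _ _ hcond
    have hz₁ := hP.lift_fst _ _ hcond
    have hz₂ := hP.lift_snd _ _ hcond
    have e1 : z ≫ q (inL A S) = g₁ := by
      simp only [q]
      erw [reassoc_of% hz₁]
      rw [Iso.hom_inv_id, Category.comp_id]
    have e2 : z ≫ q (inR A S) = g₂ := by
      simp only [q]
      erw [reassoc_of% hz₂]
      rw [Iso.hom_inv_id, Category.comp_id]
    rw [← e1, ← e2, Category.assoc, Category.assoc]
    exact congrArg (z ≫ ·) (congrArg (fun w : T2 ⟶ E => w.left) hd)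
  let s₀ : WittGrp.W p n B ⟶ E := Over.homMk (EffectiveEpi.desc π.left d.left hdesc) (by
    rw [← cancel_epi π.left, ← Category.assoc, EffectiveEpi.fac, Over.w, Over.w])
  have hπs : π ≫ s₀ = d := Over.OverMorphism.ext (EffectiveEpi.fac π.left d.left hdesc)
  have hs : s₀ ≫ π = 𝟙 _ := by
    haveI : Epi π.left := inferInstance
    haveI : Epi π := Over.epi_of_epi_left π
    rw [← cancel_epi π, ← Category.assoc, hπs, Category.comp_id, show d = _ from rfl, MonObj.mul_comp,
      GrpObj.inv_comp, Category.assoc, hiπ, MonObj.comp_one, inv_one, _root_.mul_one, Category.id_comp]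
  refine ⟨s₀ * ((1 : WittGrp.W p n B ⟶ WittGrp.W p n B) ≫ s₀)⁻¹, ?_, fun T => ?_⟩
  · rw [MonObj.mul_comp, GrpObj.inv_comp, Category.assoc, hs, Category.comp_id, inv_one, _root_.mul_one]
  · rw [MonObj.comp_mul, GrpObj.comp_inv, ← Category.assoc, MonObj.comp_one, mul_inv_cancel]

end Groth.Agent.WittExtLib
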