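import Groth.Agent.WittExtLib.Classify
import Groth.Agent.WittExtLib.Section
import Groth.Agent.WittHomLib.Endo
import Mathlib

/-! The group of extensions between a Witt group and the additive group. -/

set_option autoImplicit false
set_option backward.isDefEq.respectTransparency false
universe u

open CategoryTheory CategoryTheory.Limits AlgebraicGeometry Opposite MonObj MonoidalCategory CartesianMonoidalCategory
open Groth.Agent.WittHomLib

noncomputable section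

namespace Groth.Agent.WittExtLib

variable {p : ℕ} [hp : Fact p.Prime] {k : Type u} [Field k]

local notation "B" => Spec (CommRingCat.of k)

/-- A section of an extension of Witt groups together with its cocycle. -/
structure Data {m n : ℕ} {E : Over B} [GrpObj E] (i : WittGrp.W p m B ⟶ E) (π : E ⟶ WittGrp.W p n B) where
  s : WittGrp.W p n B ⟶ E
  hs : s ≫ π = 𝟙 _
  hs0 : ∀ (T : Over B), (1 : T ⟶ WittGrp.W p n B) ≫ s = 1
  f : TruncatedWittVector p n k → TruncatedWittVector p n k → TruncatedWittVector p m k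
  hfm : IsMor₂ f
  hfc : IsCoc f
  hf : ∀ x y, pt (f x y) ≫ i = (pt x ≫ s) * (pt y ≫ s) * (pt (x + y) ≫ s)⁻¹

variable {m n : ℕ} {E : Over (Spec (CommRingCat.of k))} [GrpObj E] [IsCommMonObj E]
  {i : WittGrp.W p m (Spec (CommRingCat.of k)) ⟶ E} [IsMonHom i] [IsClosedImmersion i.left]
  {π : E ⟶ WittGrp.W p n (Spec (CommRingCat.of k))} [IsMonHom π]

theorem comp_i_injective {T : Over B} {x y : T ⟶ WittGrp.W p m B} (h : x ≫ i = y ≫ i) : x = y :=
  haveI : Mono i := Over.mono_of_mono_left i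
  (cancel_mono i).mp h

theorem i_comp_π (hker : AlgGrp.IsKernel i π) : i ≫ π = 1 := hker.w.trans Hom.one_def.symm

theorem exists_lift_ker (hker : AlgGrp.IsKernel i π) {T : Over B} (a : T ⟶ E) (h : a ≫ π = 1) :
    ∃ w, w ≫ i = a :=
  ⟨hker.lift a (toUnit T) (h.trans Hom.one_def), hker.lift_fst _ _ _⟩

theorem aux₃ {G : Type*} [CommGroup G] (S₁ S₂ S₁₂ a b : G) :
    S₁ * S₂ * S₁₂⁻¹ * a * b * S₁₂ = (S₁ * a) * (S₂ * b) := by
  rw [show S₁ * S₂ * S₁₂⁻¹ * a * b * S₁₂ = (S₁ * a) * (S₂ * b) * (S₁₂⁻¹ * S₁₂) by ac_rfl,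
    inv_mul_cancel, _root_.mul_one]

theorem exists_data [QuasiCompact E.hom] [Surjective π.left] [Flat π.left] (hker : AlgGrp.IsKernel i π) :
    Nonempty (Data i π) := by
  obtain ⟨s, hs, hs0⟩ := exists_section i π hker
  let a : WittGrp.W p (n + n) B ⟶ E := (pr₁ n ≫ s) * (pr₂ n ≫ s) * ((pr₁ n * pr₂ n) ≫ s)⁻¹
  obtain ⟨F, hF⟩ := exists_lift_ker hker a (by
    simp only [a, MonObj.mul_comp, GrpObj.inv_comp, Category.assoc, hs, Category.comp_id, mul_inv_cancel])
  let f : TruncatedWittVector p n k → TruncatedWittVector p n k → TruncatedWittVector p m k :=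
    fun x y => pv (catPt (pt x) (pt y) ≫ F)
  have hf : ∀ x y, pt (f x y) ≫ i = (pt x ≫ s) * (pt y ≫ s) * (pt (x + y) ≫ s)⁻¹ := by
    intro x y
    rw [show pt (f x y) = catPt (pt x) (pt y) ≫ F from pt_pv _, Category.assoc, hF]
    simp only [a, MonObj.comp_mul, GrpObj.comp_inv, ← Category.assoc, catPt_pr₁, catPt_pr₂, pt_add]
  have hinj : ∀ {u v : TruncatedWittVector p m k}, pt u ≫ i = pt v ≫ i → u = v := fun h =>
    (pv_pt _).symm.trans ((congrArg pv (comp_i_injective h)).trans (pv_pt _))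
  refine ⟨⟨s, hs, hs0, f, ⟨F, fun x y => ?_⟩, ⟨fun x => hinj ?_, fun x y => hinj ?_, fun x y z => hinj ?_⟩, hf⟩⟩
  · show pv (catPt x y ≫ F) = pv (catPt (pt (pv x)) (pt (pv y)) ≫ F)
    rw [pt_pv, pt_pv]
  · rw [hf, pt_zero, hs0, pt_zero, MonObj.one_comp, _root_.mul_one, add_zero, mul_inv_cancel]
  · rw [hf, hf, add_comm x y, _root_.mul_comm (pt x ≫ s)]
  · rw [pt_add, pt_add, MonObj.mul_comp, MonObj.mul_comp, hf, hf, hf, hf, add_assoc x y z]
    generalize pt x ≫ s = X; generalize pt y ≫ s = Y; generalize pt z ≫ s = Z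
    generalize pt (x + y) ≫ s = XY; generalize pt (y + z) ≫ s = YZ
    generalize pt (x + (y + z)) ≫ s = XYZ
    rw [show X * Y * XY⁻¹ * (XY * Z * XYZ⁻¹) = X * Y * Z * XYZ⁻¹ * (XY⁻¹ * XY) by ac_rfl,
      show Y * Z * YZ⁻¹ * (X * YZ * XYZ⁻¹) = X * Y * Z * XYZ⁻¹ * (YZ⁻¹ * YZ) by ac_rfl,
      inv_mul_cancel, inv_mul_cancel]

/-- Every rational point of the middle group in coordinates. -/
theorem Data.exists_coord (d : Data i π) (hker : AlgGrp.IsKernel i π) (σ : WittGrp.W p 0 B ⟶ E) :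
    ∃ (x : TruncatedWittVector p n k) (w : TruncatedWittVector p m k), σ = (pt x ≫ d.s) * (pt w ≫ i) := by
  obtain ⟨w, hw⟩ := exists_lift_ker hker (σ * (σ ≫ π ≫ d.s)⁻¹) (by
    simp only [MonObj.mul_comp, GrpObj.inv_comp, Category.assoc, d.hs, Category.comp_id, mul_inv_cancel])
  refine ⟨pv (σ ≫ π), pv w, ?_⟩
  rw [pt_pv, pt_pv, hw, Category.assoc, _root_.mul_comm, inv_mul_cancel_right]

theorem Data.mul_coord (d : Data i π) (x y : TruncatedWittVector p n k) (a b : TruncatedWittVector p m k) :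
    ((pt x ≫ d.s) * (pt a ≫ i)) * ((pt y ≫ d.s) * (pt b ≫ i)) =
      (pt (x + y) ≫ d.s) * (pt (d.f x y + a + b) ≫ i) := by
  rw [pt_add (d.f x y + a) b, pt_add (d.f x y) a, MonObj.mul_comp, MonObj.mul_comp, d.hf, _root_.mul_comm _
    (_ * _ * _), aux₃]

variable [CharP k p] [IsAlgClosed k]

instance lft_W' (r : ℕ) : LocallyOfFiniteType (WittGrp.W p r B).hom := lft_W r

theorem exists_endo₁ {φ : k → k} (hφ : AddP p φ) :
    ∃ g : WittGrp.W p 1 B ⟶ WittGrp.W p 1 B, IsMonHom g ∧ ∀ v, app g v = single (φ (v.coeff 0)) := by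
  obtain ⟨g, hg⟩ := hφ.isMor
  haveI := smooth_W (p := p) (k := k) 1
  refine ⟨g, isMonHom_of_pts (p := p) g fun x y => pv_injective ?_, congrFun hg⟩
  rw [pv_mul, ← app_pv, ← app_pv, ← app_pv, pv_mul, hg]
  simp only [coeff_add_one, hφ.map_add, single_add]

theorem truncate_top' (n : ℕ) (a : k) :
    TruncatedWittVector.truncate (Nat.le_succ n) (WittGrp.shift p (Nat.le_add_left 1 n) (single a)) = 0 :=
  truncate_top n a

theorem pushout_eq {n : ℕ} {E : Over B} [GrpObj E] [IsCommMonObj E]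
    (i : WittGrp.W p 1 B ⟶ E) [IsMonHom i] [IsClosedImmersion i.left] (hn : 1 ≤ n)
    (π : E ⟶ WittGrp.W p n B) [IsMonHom π] [Surjective π.left] [Flat π.left] [QuasiCompact E.hom]
    [Smooth E.hom] [IsSeparated E.hom] (hker : AlgGrp.IsKernel i π) :
    ∃! φ : WittGrp.W p 1 B ⟶ WittGrp.W p 1 B, IsMonHom φ ∧
      ∃ g : WittGrp.W p (n + 1) B ⟶ E, IsMonHom g ∧ WittGrp.V p B (Nat.le_add_left 1 n) ≫ g = φ ≫ i ∧
        g ≫ π = WittGrp.R p B (Nat.le_add_right n 1) := by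
  obtain ⟨d⟩ := exists_data (i := i) (π := π) hker
  obtain ⟨n', rfl⟩ := Nat.exists_eq_add_of_le' hn
  obtain ⟨φ, h, hφ, hh, hf⟩ := classify₁ n' d.f d.hfm d.hfc
  obtain ⟨φm, hφm, hφe⟩ := exists_endo₁ hφ
  have hh0 : h 0 = 0 := by
    refine h_zero_of_cob d.hfc ((isCoc_carry (n' + 1)).map ((sc p k).symm.toAddMonoidHom.comp hφ.hom)) ?_
    exact hf
  obtain ⟨G, hG⟩ := (hφ.isMor.comp (isMor_last (n := n' + 1))).sub
    (hh.comp (isMor_truncate (Nat.le_succ (n' + 1))))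
  haveI := smooth_W (p := p) (k := k) (n' + 1 + 1)
  haveI := smooth_W (p := p) (k := k) 1
  let g : WittGrp.W p (n' + 1 + 1) B ⟶ E :=
    (WittGrp.R p B (Nat.le_succ (n' + 1)) ≫ d.s) * (G ≫ i)
  have hgpt : ∀ z, pt z ≫ g = (pt (TruncatedWittVector.truncate (Nat.le_succ (n' + 1)) z) ≫ d.s) *
      (pt (single (φ (last z)) - h (TruncatedWittVector.truncate (Nat.le_succ (n' + 1)) z)) ≫ i) := by
    intro z
    simp only [g, MonObj.comp_mul, ← Category.assoc]
    have h1 : pt z ≫ WittGrp.R p B (Nat.le_succ (n' + 1)) = pt (TruncatedWittVector.truncate (Nat.le_succ (n' + 1)) z) :=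
      pv_injective (by rw [pv_R, pv_pt, pv_pt])
    have h2 : pt z ≫ G = pt (single (φ (last z)) - h (TruncatedWittVector.truncate (Nat.le_succ (n' + 1)) z)) :=
      pv_injective (by
        rw [← app_pv, pv_pt, pv_pt, hG]
        rfl)
    rw [h1, h2]
  haveI hgm : IsMonHom g := by
    refine isMonHom_of_pts (p := p) g fun x y => ?_
    rw [← pt_pv x, ← pt_pv y, ← pt_add, hgpt, hgpt, hgpt, Data.mul_coord, map_add]
    congr 3
    rw [hf, last_add, hφ.map_add, hφ.map_add, single_add, single_add, cob]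
    abel
  have hV : WittGrp.V p B (Nat.le_add_left 1 (n' + 1)) ≫ g = φm ≫ i := by
    refine hom_ext_pts (p := p) fun σ => ?_
    rw [← pt_pv σ, ← Category.assoc, ← Category.assoc]
    obtain ⟨a, ha⟩ : ∃ a, pv σ = single a := ⟨_, eq_single _⟩
    rw [ha, show pt (single a) ≫ WittGrp.V p B (Nat.le_add_left 1 (n' + 1)) = pt (top (n' + 1) a) from
        pv_injective (by rw [pv_V, pv_pt, pv_pt]),
      hgpt, truncate_top, pt_zero, d.hs0, _root_.one_mul, coeff_top_last, hh0, sub_zero,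
      show pt (single a) ≫ φm = pt (single (φ a)) from
        pv_injective (by rw [← app_pv, pv_pt, pv_pt, hφe, coeff_single])]
  have hgπ : g ≫ π = WittGrp.R p B (Nat.le_add_right (n' + 1) 1) := by
    simp only [g, MonObj.mul_comp, Category.assoc, d.hs, i_comp_π hker, Category.comp_id, MonObj.comp_one,
      _root_.mul_one]
  refine ⟨φm, ⟨hφm, g, hgm, hV, hgπ⟩, ?_⟩
  rintro φ' ⟨hφ', g', hg', hV', hπ'⟩
  obtain ⟨δ, hδ⟩ := exists_lift_ker hker (g' * g⁻¹) (by
    rw [MonObj.mul_comp, GrpObj.inv_comp, hπ', hgπ, mul_inv_cancel])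
  haveI : IsMonHom δ := isMonHom_of_mul δ fun T x y => comp_i_injective (i := i) (by
    rw [MonObj.mul_comp (x ≫ δ) (y ≫ δ) i, Category.assoc, Category.assoc, Category.assoc, hδ, MonObj.comp_mul,
      MonObj.comp_mul,
      MonObj.comp_mul, GrpObj.comp_inv, GrpObj.comp_inv, GrpObj.comp_inv, MonObj.mul_comp x y g',
      MonObj.mul_comp x y g, mul_inv]
    exact mul_mul_mul_comm _ _ _ _)
  have h1 : WittGrp.V p B (Nat.le_add_left 1 (n' + 1)) ≫ δ = 1 := by
    rw [← V_comp (S := B) (Nat.le_add_left 1 n') (Nat.le_succ (n' + 1)), Category.assoc,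
      V_comp_hom (Nat.le_succ (n' + 1)) (by omega) δ, MonObj.comp_one]
  refine comp_i_injective (i := i) ?_
  have h2 := congrArg (WittGrp.V p B (Nat.le_add_left 1 (n' + 1)) ≫ ·) hδ
  simp only [← Category.assoc, h1, MonObj.one_comp, MonObj.comp_mul, GrpObj.comp_inv, hV', hV] at h2
  exact mul_inv_eq_one.mp h2.symm

theorem pullback_eq {n : ℕ} {E : Over B} [GrpObj E] [IsCommMonObj E]
    (i : WittGrp.W p n B ⟶ E) [IsMonHom i] [IsClosedImmersion i.left] (hn : 1 ≤ n)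
    (π : E ⟶ WittGrp.W p 1 B) [IsMonHom π] [Surjective π.left] [Flat π.left] [QuasiCompact E.hom]
    [Smooth E.hom] [IsSeparated E.hom] (hker : AlgGrp.IsKernel i π) :
    ∃! ψ : WittGrp.W p 1 B ⟶ WittGrp.W p 1 B, IsMonHom ψ ∧
      ∃ h : E ⟶ WittGrp.W p (n + 1) B, IsMonHom h ∧ i ≫ h = WittGrp.V p B (Nat.le_add_right n 1) ∧
        h ≫ WittGrp.R p B (Nat.le_add_left 1 n) = π ≫ ψ := by
  obtain ⟨d⟩ := exists_data (i := i) (π := π) hker
  obtain ⟨n', rfl⟩ := Nat.exists_eq_add_of_le' hn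
  obtain ⟨ψ, h₀, hψ, hh₀, hf⟩ := classify₂ n' d.f d.hfm d.hfc
  obtain ⟨ψm, hψm, hψe⟩ := exists_endo₁ hψ
  have hψ0 : ψ 0 = 0 := hψ.hom.map_zero
  have hh0 : h₀ 0 = 0 :=
    h_zero_of_cob d.hfc ((isCoc_carryV (p := p) (R := k) n').comap (hψ.hom.comp (head (p := p) (R := k) 0))) hf
  have hPm : IsMor (fun x : TruncatedWittVector p 1 k =>
      tau (p := p) (n' + 1) (ψ (x.coeff 0)) + WittGrp.shift p (Nat.le_succ (n' + 1)) (h₀ x)) := by
    refine IsMor.add ?_ ((isMor_shift _).comp hh₀)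
    exact (isMor_tau (n := n' + 1)).comp hψ.isMor
  obtain ⟨P, hP⟩ := hPm
  obtain ⟨w, hw⟩ := exists_lift_ker hker (𝟙 E * (π ≫ d.s)⁻¹) (by
    simp only [MonObj.mul_comp, GrpObj.inv_comp, Category.assoc, d.hs, Category.comp_id, Category.id_comp,
      mul_inv_cancel])
  let H : E ⟶ WittGrp.W p (n' + 1 + 1) B := (w ≫ WittGrp.V p B (Nat.le_succ (n' + 1))) * (π ≫ P)
  have hσπ : ∀ x a, ((pt x ≫ d.s) * (pt a ≫ i)) ≫ π = pt x := fun x a => by
    simp only [MonObj.mul_comp, Category.assoc, d.hs, i_comp_π hker, Category.comp_id, MonObj.comp_one,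
      _root_.mul_one]
  have hσw : ∀ x a, ((pt x ≫ d.s) * (pt a ≫ i)) ≫ w = pt a := fun x a => comp_i_injective (i := i) (by
    rw [Category.assoc, hw, MonObj.comp_mul, Category.comp_id, GrpObj.comp_inv, ← Category.assoc, hσπ,
      _root_.mul_comm (pt x ≫ d.s), mul_inv_cancel_right])
  have hHpt : ∀ x a, pv (((pt x ≫ d.s) * (pt a ≫ i)) ≫ H) =
      WittGrp.shift p (Nat.le_succ (n' + 1)) a +
        (tau (n' + 1) (ψ (x.coeff 0)) + WittGrp.shift p (Nat.le_succ (n' + 1)) (h₀ x)) := fun x a => by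
    simp only [H, MonObj.comp_mul, ← Category.assoc, hσπ, hσw, pv_mul, pv_V, pv_pt]
    rw [← app_pv, pv_pt, hP]
  haveI hHm : IsMonHom H := by
    refine isMonHom_of_pts (p := p) H fun σ τ => ?_
    obtain ⟨x, a, rfl⟩ := d.exists_coord hker σ
    obtain ⟨y, b, rfl⟩ := d.exists_coord hker τ
    refine pv_injective ?_
    rw [pv_mul, d.mul_coord, hHpt, hHpt, hHpt, hf, map_add, map_add, map_add, shift_carryV, cob, map_sub, map_add,
      coeff_add_one, hψ.map_add]
    abel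
  haveI := smooth_W (p := p) (k := k) (n' + 1)
  have hiH : i ≫ H = WittGrp.V p B (Nat.le_add_right (n' + 1) 1) := by
    refine hom_ext_pts (p := p) fun σ => pv_injective ?_
    have h := hHpt 0 (pv σ)
    rw [pt_zero, d.hs0, _root_.one_mul, pt_pv, TruncatedWittVector.coeff_zero, hψ0, tau_zero, hh0, map_zero,
      add_zero, add_zero, Category.assoc] at h
    rw [h, pv_V]
  have hHR : H ≫ WittGrp.R p B (Nat.le_add_left 1 (n' + 1)) = π ≫ ψm := by
    refine hom_ext_pts (p := p) fun σ => pv_injective ?_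
    obtain ⟨x, a, rfl⟩ := d.exists_coord hker σ
    rw [← Category.assoc, pv_R, hHpt, ← Category.assoc, hσπ, ← app_pv, pv_pt, hψe]
    refine (sc p k).injective ?_
    rw [sc_apply, sc_apply, TruncatedWittVector.coeff_truncate, coeff_single]
    show head (p := p) (R := k) (n' + 1) _ = _
    erw [map_add, map_add]
    rw [head_apply, head_apply, head_apply, coeff_zero_tau, WittGrp.coeff_shift,
      WittGrp.coeff_shift, dif_neg (by simp), dif_neg (by simp)]
    simp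
  refine ⟨ψm, ⟨hψm, H, hHm, hiH, hHR⟩, ?_⟩
  rintro ψ' ⟨hψ', H', hH', hiH', hHR'⟩
  haveI := isMonHom_inv' H
  haveI := isMonHom_prod H' H⁻¹
  haveI := smooth_W (p := p) (k := k) 1
  haveI : IsMonHom (d.s ≫ (H' * H⁻¹)) := by
    refine isMonHom_of_pts (p := p) _ fun x y => ?_
    have h := d.hf (pv x) (pv y)
    rw [pt_pv, pt_pv, pt_add, pt_pv, pt_pv, eq_comm, mul_inv_eq_iff_eq_mul] at h
    rw [← Category.assoc, ← Category.assoc x, ← Category.assoc y, ← MonObj.mul_comp, h,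
      MonObj.mul_comp _ _ (H' * H⁻¹),
      Category.assoc _ i, MonObj.comp_mul i, GrpObj.comp_inv, hiH', hiH, mul_inv_cancel, MonObj.comp_one,
      _root_.one_mul]
  have h1 : (d.s ≫ (H' * H⁻¹)) ≫ WittGrp.R p B (Nat.le_add_left 1 (n' + 1)) = 1 := by
    rw [← R_comp (S := B) (Nat.le_add_left 1 n') (Nat.le_succ (n' + 1)), ← Category.assoc,
      hom_comp_R (Nat.le_succ (n' + 1)) (by omega) (d.s ≫ (H' * H⁻¹)), MonObj.one_comp]
  rw [Category.assoc, MonObj.mul_comp, GrpObj.inv_comp, hHR', hHR, MonObj.comp_mul, GrpObj.comp_inv,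
    ← Category.assoc, ← Category.assoc, d.hs, Category.id_comp, Category.id_comp] at h1
  exact mul_inv_eq_one.mp h1

end Groth.Agent.WittExtLib
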