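import Groth.Agent.WittExtLib.Pts
import Groth.Agent.GaSplit.CocycleForm
import Mathlib

/-! Classification of symmetric cocycles on Witt groups with values in Witt groups. -/

set_option autoImplicit false
set_option backward.isDefEq.respectTransparency false
universe u v w

open Groth.Agent.GaSplit

noncomputable section

namespace Groth.Agent.WittExtLib

section Alg

variable {M : Type v} {A : Type w} [AddCommGroup M] [AddCommGroup A]

/-- A symmetric normalised cocycle. -/
structure IsCoc (f : M → M → A) : Prop where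
  zero : ∀ x, f x 0 = 0
  symm : ∀ x y, f x y = f y x
  assoc : ∀ x y z, f x y + f (x + y) z = f y z + f x (y + z)

/-- The coboundary of a function. -/
def cob (h : M → A) (x y : M) : A := h x + h y - h (x + y)

namespace IsCoc

variable {f f' : M → M → A}

theorem add (hf : IsCoc f) (hf' : IsCoc f') : IsCoc (fun x y => f x y + f' x y) :=
  ⟨fun x => by simp [hf.zero, hf'.zero], fun x y => by simp only [hf.symm x y, hf'.symm x y],
    fun x y z => by
      calc f x y + f' x y + (f (x + y) z + f' (x + y) z) = (f x y + f (x + y) z) + (f' x y + f' (x + y) z) := by abel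
        _ = (f y z + f x (y + z)) + (f' y z + f' x (y + z)) := by rw [hf.assoc, hf'.assoc]
        _ = _ := by abel⟩

theorem neg (hf : IsCoc f) : IsCoc (fun x y => -f x y) :=
  ⟨fun x => by simp [hf.zero], fun x y => by simp only [hf.symm x y], fun x y z => by
    rw [← neg_add, ← neg_add, hf.assoc]⟩

theorem sub (hf : IsCoc f) (hf' : IsCoc f') : IsCoc (fun x y => f x y - f' x y) := by
  simpa only [sub_eq_add_neg] using hf.add hf'.neg

theorem map {A' : Type*} [AddCommGroup A'] (hf : IsCoc f) (φ : A →+ A') : IsCoc (fun x y => φ (f x y)) :=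
  ⟨fun x => by simp [hf.zero], fun x y => by simp only [hf.symm x y],
    fun x y z => by rw [← map_add, ← map_add, hf.assoc]⟩

theorem comap {M' : Type*} [AddCommGroup M'] (hf : IsCoc f) (φ : M' →+ M) : IsCoc (fun x y => f (φ x) (φ y)) :=
  ⟨fun x => by simp [hf.zero], fun x y => hf.symm _ _, fun x y z => by rw [map_add, map_add, hf.assoc]⟩

theorem of_surj {M' : Type*} [AddCommGroup M'] (φ : M' →+ M) (hφ : Function.Surjective φ)
    (h : IsCoc (fun x y => f (φ x) (φ y))) : IsCoc f where
  zero x := by
    obtain ⟨x, rfl⟩ := hφ x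
    simpa using h.zero x
  symm x y := by
    obtain ⟨x, rfl⟩ := hφ x; obtain ⟨y, rfl⟩ := hφ y
    exact h.symm x y
  assoc x y z := by
    obtain ⟨x, rfl⟩ := hφ x; obtain ⟨y, rfl⟩ := hφ y; obtain ⟨z, rfl⟩ := hφ z
    simpa using h.assoc x y z

theorem of_inj {A' : Type*} [AddCommGroup A'] (φ : A →+ A') (hφ : Function.Injective φ)
    (h : IsCoc (fun x y => φ (f x y))) : IsCoc f :=
  ⟨fun x => hφ (by simpa using h.zero x), fun x y => hφ (h.symm x y),
    fun x y z => hφ (by simpa using h.assoc x y z)⟩

/-- The identity of four elements. -/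
theorem four (hf : IsCoc f) (X A' Y B : M) :
    f (X + A') (Y + B) + f X A' + f Y B = f X Y + f A' B + f (X + Y) (A' + B) := by
  have c1 := hf.assoc X A' (Y + B)
  have c2 := hf.assoc A' Y B
  have c3 := hf.assoc Y A' B
  have c4 := hf.assoc X Y (A' + B)
  rw [hf.symm A' Y, add_comm A' Y] at c2
  rw [show A' + (Y + B) = Y + (A' + B) by abel] at c1
  calc f (X + A') (Y + B) + f X A' + f Y B
      = (f X A' + f (X + A') (Y + B)) + f Y B := by abel
    _ = f A' (Y + B) + f X (Y + (A' + B)) + f Y B := by rw [c1]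
    _ = (f Y B + f A' (Y + B)) + f X (Y + (A' + B)) := by abel
    _ = (f Y A' + f (Y + A') B) + f X (Y + (A' + B)) := by rw [c2]
    _ = (f A' B + f Y (A' + B)) + f X (Y + (A' + B)) := by rw [c3]
    _ = f A' B + (f Y (A' + B) + f X (Y + (A' + B))) := by abel
    _ = f A' B + (f X Y + f (X + Y) (A' + B)) := by rw [c4]
    _ = _ := by abel

end IsCoc

theorem isCoc_cob (h : M → A) (h0 : h 0 = 0) : IsCoc (cob h) :=
  ⟨fun x => by simp [cob, h0], fun x y => by simp only [cob, add_comm x y, add_comm (h x)],
    fun x y z => by simp only [cob, add_assoc x y z]; abel⟩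

theorem h_zero_of_cob {f : M → M → A} (hf : IsCoc f) {h : M → A} {g : M → M → A} (hg : IsCoc g)
    (e : ∀ x y, f x y = g x y + cob h x y) : h 0 = 0 := by
  have := e 0 0
  simpa [hf.zero, hg.zero, cob] using this.symm

end Alg

variable {p : ℕ} [hp : Fact p.Prime]

section Carries

variable {R : Type u} [CommRing R]

theorem ext0_zero (n : ℕ) : ext0 (0 : TruncatedWittVector p n R) = 0 :=
  TruncatedWittVector.ext fun i => by
    induction i using Fin.lastCases with
    | last => rw [TruncatedWittVector.coeff_zero]; exact last_ext0 _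
    | cast i => rw [coeff_ext0_castSucc, TruncatedWittVector.coeff_zero, TruncatedWittVector.coeff_zero]

theorem isCoc_carry (n : ℕ) : IsCoc (fun x y : TruncatedWittVector p n R => carry x y) where
  zero x := by rw [carry, ext0_zero, add_zero, last_ext0]
  symm x y := by rw [carry, carry, add_comm]
  assoc x y z := by
    have h1 : ext0 x + ext0 y + ext0 z = ext0 (x + y + z) + top n (carry x y + carry (x + y) z) := by
      rw [ext0_add_ext0 x y, add_right_comm, ext0_add_ext0 (x + y) z, add_assoc, ← top_add,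
        add_comm (carry (x + y) z)]
    have h2 : ext0 x + ext0 y + ext0 z = ext0 (x + y + z) + top n (carry y z + carry x (y + z)) := by
      rw [add_assoc, ext0_add_ext0 y z, ← add_assoc, ext0_add_ext0 x (y + z), ← add_assoc x y z, add_assoc,
        ← top_add, add_comm (carry x (y + z))]
    have h := congrArg last (h1.symm.trans h2)
    rwa [last_ext0_add_top, last_ext0_add_top] at h

theorem tau_zero (n : ℕ) : tau (p := p) n (0 : R) = 0 :=
  TruncatedWittVector.ext fun i => by
    rw [tau, TruncatedWittVector.coeff_mk, TruncatedWittVector.coeff_zero]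
    induction i using Fin.cases with
    | zero => simp
    | succ i => simp

theorem isCoc_carryV (n : ℕ) : IsCoc (fun a b : R => carryV (p := p) n a b) := by
  refine IsCoc.of_inj (WittGrp.shift p (Nat.le_succ (n + 1))) (WittHomLib.shift_inj _) ?_
  simp only [shift_carryV]
  exact isCoc_cob _ (tau_zero (n + 1))

end Carries

variable {k : Type u} [Field k] [CharP k p]

variable (p) in
/-- Additive polynomial functions. -/
inductive AddP : (k → k) → Prop
  | zero : AddP (fun _ => 0)
  | monomial (c : k) (i : ℕ) : AddP (fun a => c * a ^ p ^ i)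
  | add {f g : k → k} : AddP f → AddP g → AddP (fun a => f a + g a)

theorem AddP.map_add {φ : k → k} (h : AddP p φ) (a b : k) : φ (a + b) = φ a + φ b := by
  induction h with
  | zero => simp
  | monomial c i => simp only [add_pow_char_pow (CharP.cast_eq_zero k p), mul_add]
  | add _ _ hf hg => simp only [hf, hg]; ring

/-- The homomorphism of an additive polynomial function. -/
def AddP.hom {φ : k → k} (h : AddP p φ) : k →+ k := AddMonoidHom.mk' φ h.map_add

theorem AddP.exists_poly {φ : k → k} (h : AddP p φ) : ∃ P : Polynomial k, ∀ a, φ a = P.eval a := by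
  induction h with
  | zero => exact ⟨0, fun a => by simp⟩
  | monomial c i => exact ⟨Polynomial.C c * Polynomial.X ^ p ^ i, fun a => by simp⟩
  | add _ _ hf hg =>
    obtain ⟨P, hP⟩ := hf
    obtain ⟨Q, hQ⟩ := hg
    exact ⟨P + Q, fun a => by simp [hP, hQ]⟩

theorem AddP.isMor {φ : k → k} (h : AddP p φ) :
    IsMor (fun x : TruncatedWittVector p 1 k => single (p := p) (φ (x.coeff 0))) := by
  obtain ⟨P, hP⟩ := h.exists_poly
  simpa only [hP] using isMor_single_eval (p := p) P

theorem addP_sum (N : ℕ) (c : ℕ → k) : AddP p (fun a => ∑ i ∈ Finset.range N, c i * a ^ p ^ i) := by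
  induction N with
  | zero => simpa using AddP.zero
  | succ N ih =>
    simp only [Finset.sum_range_succ]
    exact ih.add (AddP.monomial (c N) N)

theorem cpOf_pow (i : ℕ) (a b : k) : cpOf p (a ^ p ^ i) (b ^ p ^ i) = cpOf p a b ^ p ^ i := by
  haveI : ExpChar k p := ExpChar.prime hp.out
  exact (map_cpOf (p := p) (iterateFrobenius k p i) a b).symm

omit [CharP k p] in
theorem eval_aeval_poly {σ : Type} (v : σ → k) (A : MvPolynomial σ k) (G : Polynomial k) :
    MvPolynomial.eval v (Polynomial.aeval A G) = G.eval (MvPolynomial.eval v A) := by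
  induction G using Polynomial.induction_on' with
  | add f g hf hg => simp only [map_add, Polynomial.eval_add, hf, hg]
  | monomial d c => simp [Polynomial.aeval_monomial]

omit [CharP k p] in
theorem cpOf_mul_left (t a b : k) : cpOf p (t * a) (t * b) = t ^ p * cpOf p a b := by
  rw [cpOf, cpOf, Finset.mul_sum]
  refine Finset.sum_congr rfl fun j hj => ?_
  rw [Finset.mem_Ioo] at hj
  rw [mul_pow, mul_pow]
  conv_rhs => rw [show p = j + (p - j) by omega, pow_add]
  rw [Nat.add_sub_cancel_left, show j + (p - j) = p by omega]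
  ring

variable [IsAlgClosed k]

/-- Lazard's lemma, for functions. -/
theorem lazard (f : k → k → k) (hf : IsCoc f) (P : MvPolynomial (Fin 2) k)
    (hP : ∀ a b, f a b = MvPolynomial.eval ![a, b] P) :
    ∃ (φ : k → k) (G : Polynomial k), AddP p φ ∧
      ∀ a b, f a b = φ (-cpOf p a b) + cob (fun t => G.eval t) a b := by
  have hev : ∀ {σ : Type} (v : σ → k) (A A' : MvPolynomial σ k),
      MvPolynomial.eval v (MvPolynomial.aeval ![A, A'] P) = f (MvPolynomial.eval v A) (MvPolynomial.eval v A') := by
    intro σ v A A'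
    rw [hP]
    clear hP
    induction P using MvPolynomial.induction_on with
    | C c => simp
    | add q q' hq hq' => simp only [map_add, hq, hq']
    | mul_X q i hq => simp only [map_mul, MvPolynomial.aeval_X, MvPolynomial.eval_X, hq]; fin_cases i <;> simp
  obtain ⟨G, N, r, hform⟩ := exists_form (p := p) (CharP.cast_eq_zero k p) (F := P)
    (MvPolynomial.funext fun v => by
      rw [hev, MvPolynomial.eval_X, MvPolynomial.eval_X, hf.symm, hP]
      exact congrArg (fun w => MvPolynomial.eval w P) (funext fun i => by fin_cases i <;> rfl))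
    (MvPolynomial.funext fun v => by
      simp only [map_sub, map_add, hev, MvPolynomial.eval_X, map_zero]
      linear_combination -hf.assoc (v 0) (v 1) (v 2))
  refine ⟨fun a => ∑ i ∈ Finset.range N, -r i * a ^ p ^ i, -G, addP_sum N _, fun a b => ?_⟩
  have hneg : ∀ (x : k) (i : ℕ), (-x) ^ p ^ i = -(x ^ p ^ i) := by
    haveI : ExpChar k p := ExpChar.prime hp.out
    exact fun x i => map_neg (iterateFrobenius k p i) x
  rw [hP, hform, form, map_add, map_sum]
  simp only [cob, hneg, Polynomial.eval_neg]
  rw [add_comm (Finset.sum _ _)]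
  refine congrArg₂ (· + ·) ?_ (Finset.sum_congr rfl fun i _ => ?_)
  · simp only [map_sub, eval_aeval_poly, map_add, MvPolynomial.eval_X, Matrix.cons_val_zero, Matrix.cons_val_one]
    ring
  · rw [map_mul, MvPolynomial.eval_C, aeval_cp, map_cpOf, map_pow, map_pow, MvPolynomial.eval_X,
      MvPolynomial.eval_X, Matrix.cons_val_zero, Matrix.cons_val_one, Matrix.cons_val_fin_one, cpOf_pow]
    ring

theorem lazard₁ (f : TruncatedWittVector p 1 k → TruncatedWittVector p 1 k → TruncatedWittVector p 1 k)
    (hm : IsMor₂ f) (hf : IsCoc f) : ∃ (φ : k → k) (G : Polynomial k), AddP p φ ∧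
      ∀ a b, (f (single a) (single b)).coeff 0 = φ (-cpOf p a b) + cob (fun t => G.eval t) a b := by
  obtain ⟨P, hP⟩ := exists_poly₂ hm
  refine lazard (fun a b => (f (single a) (single b)).coeff 0) ?_ P hP
  exact (hf.comap (sc p k).symm.toAddMonoidHom).map (head 0)

/-- Change of module structure for the standard class. -/
theorem AddP.exists_right {φ : k → k} (h : AddP p φ) :
    ∃ (ψ : k → k) (G : Polynomial k), AddP p ψ ∧
      ∀ a b, φ (-cpOf p a b) = -cpOf p (ψ a) (ψ b) + cob (fun t => G.eval t) a b := by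
  haveI : ExpChar k p := ExpChar.prime hp.out
  induction h with
  | zero => exact ⟨fun _ => 0, 0, AddP.zero, fun a b => by
      have : cpOf p (0 : k) 0 = 0 := by
        simpa [zero_pow hp.out.ne_zero] using cpOf_mul_left (p := p) (0 : k) a b
      simp [this, cob]⟩
  | monomial c i =>
    obtain ⟨d, hd⟩ := IsAlgClosed.exists_pow_nat_eq c hp.out.pos
    refine ⟨fun a => d * a ^ p ^ i, 0, AddP.monomial d i, fun a b => ?_⟩
    dsimp only
    rw [cpOf_mul_left, hd, cpOf_pow, show (-cpOf p a b) ^ p ^ i = -(cpOf p a b ^ p ^ i) from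
      map_neg (iterateFrobenius k p i) _]
    simp [cob]
  | @add f g hf hg ihf ihg =>
    obtain ⟨ψ₁, G₁, h₁, e₁⟩ := ihf
    obtain ⟨ψ₂, G₂, h₂, e₂⟩ := ihg
    obtain ⟨P₁, hP₁⟩ := h₁.exists_poly
    obtain ⟨P₂, hP₂⟩ := h₂.exists_poly
    refine ⟨fun a => ψ₁ a + ψ₂ a, G₁ + G₂ - cpOf p P₁ P₂, h₁.add h₂, fun a b => ?_⟩
    have hC : IsCoc (fun x y : k => -cpOf p x y) := by
      refine IsCoc.neg ⟨fun x => ?_, fun x y => cpOf_comm y x, fun x y z => ?_⟩
      · simp only [cpOf]
        refine Finset.sum_eq_zero fun j hj => ?_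
        rw [Finset.mem_Ioo] at hj
        rw [zero_pow (by omega), mul_zero]
      · linear_combination -cpOf_cocycle (p := p) x y z
    have h4 := hC.four (ψ₁ a) (ψ₂ a) (ψ₁ b) (ψ₂ b)
    simp only [← h₁.map_add, ← h₂.map_add] at h4
    have hK : ∀ t : k, (cpOf p P₁ P₂).eval t = cpOf p (ψ₁ t) (ψ₂ t) := fun t => by
      rw [hP₁, hP₂]
      exact map_cpOf (Polynomial.evalRingHom t) P₁ P₂
    simp only [cob] at e₁ e₂
    simp only [cob, Polynomial.eval_sub, Polynomial.eval_add, hK, e₁, e₂]
    linear_combination -h4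

/-- Extensions of `W_{n+1}` by the additive group. -/
theorem classify₁ : ∀ (n : ℕ)
    (f : TruncatedWittVector p (n + 1) k → TruncatedWittVector p (n + 1) k → TruncatedWittVector p 1 k)
    (_ : IsMor₂ f) (_ : IsCoc f), ∃ (φ : k → k) (h : TruncatedWittVector p (n + 1) k → TruncatedWittVector p 1 k),
      AddP p φ ∧ IsMor h ∧ ∀ x y, f x y = single (φ (carry x y)) + cob h x y := by
  intro n
  induction n with
  | zero =>
    intro f hm hf
    obtain ⟨φ, G, hφ, e⟩ := lazard₁ f hm hf
    refine ⟨φ, _, hφ, isMor_single_eval G, fun x y => ?_⟩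
    obtain ⟨a, rfl⟩ : ∃ a, x = single a := ⟨_, eq_single x⟩
    obtain ⟨b, rfl⟩ : ∃ b, y = single b := ⟨_, eq_single y⟩
    refine (sc p k).injective ?_
    simp only [cob, map_add, map_sub, sc_apply, coeff_single, e, carry_single]
    rw [← single_add, coeff_single]
  | succ n ih =>
    intro f hm hf
    let topH : TruncatedWittVector p 1 k →+ TruncatedWittVector p (n + 2) k :=
      WittGrp.shift p (Nat.le_add_left 1 (n + 1))
    obtain ⟨φ, G, hφ, e⟩ := lazard₁ (fun a b => f (topH a) (topH b))
      (hm.left (isMor_shift _) (isMor_shift _)) (hf.comap topH)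
    let f₁ := fun x y : TruncatedWittVector p (n + 2) k => f x y - single (φ (carry x y))
    have hf₁ : IsCoc f₁ := hf.sub ((isCoc_carry (n + 2)).map ((sc p k).symm.toAddMonoidHom.comp hφ.hom))
    have hm₁ : IsMor₂ f₁ := hm.sub (by
      simpa only [coeff_single] using hφ.isMor.comp₂ (isMor₂_carry (p := p) (k := k) (n := n + 2)))
    let H : k → TruncatedWittVector p 1 k := fun a => single (G.eval a)
    have htop : ∀ a b, f₁ (top (n + 1) a) (top (n + 1) b) = H a + H b - H (a + b) := by
      intro a b
      refine sub_eq_iff_eq_add.mpr ?_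
      rw [carry_top, eq_single (f _ _), e, single_add, add_comm]
      refine congrArg (· + _) ?_
      simp only [cob, H]
      exact (map_sub (sc p k).symm _ _).trans (congrArg (· - _) (map_add (sc p k).symm _ _))
    let tr : TruncatedWittVector p (n + 2) k →+ TruncatedWittVector p (n + 1) k :=
      (TruncatedWittVector.truncate (Nat.le_succ (n + 1))).toAddMonoidHom
    let u : TruncatedWittVector p (n + 2) k → TruncatedWittVector p 1 k :=
      fun x => f₁ (ext0 (tr x)) (top (n + 1) (last x)) - H (last x)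
    let g : TruncatedWittVector p (n + 1) k → TruncatedWittVector p (n + 1) k → TruncatedWittVector p 1 k :=
      fun x y => f₁ (ext0 x) (ext0 y) + H (carry x y) - f₁ (ext0 (x + y)) (top (n + 1) (carry x y))
    have hH : IsMor (fun x : TruncatedWittVector p 1 k => H (x.coeff 0)) := isMor_single_eval G
    have hu : IsMor u := by
      have h1 : IsMor (fun x : TruncatedWittVector p (n + 2) k => top (p := p) (n + 1) (last x)) := by
        exact isMor_top.comp isMor_last
      have h2 : IsMor (fun x : TruncatedWittVector p (n + 2) k => H (last x)) := by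
        simpa only [coeff_single] using hH.comp isMor_last
      exact (hm₁.comp (isMor_ext0.comp (isMor_truncate (p := p) (k := k) (Nat.le_succ (n + 1)))) h1).sub h2
    have hg : IsMor₂ g := by
      have h1 : IsMor₂ (fun x y : TruncatedWittVector p (n + 1) k => H (carry x y)) := by
        simpa only [coeff_single] using hH.comp₂ isMor₂_carry
      have h2 : IsMor₂ (fun x y : TruncatedWittVector p (n + 1) k => top (p := p) (n + 1) (carry x y)) := by
        exact isMor_top.comp₂ isMor₂_carry
      exact ((hm₁.left isMor_ext0 isMor_ext0).add h1).sub (hm₁.comp₂ (isMor_ext0.comp₂ isMor₂_add) h2)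
    have hkey : ∀ x y, f₁ x y + cob u x y = g (tr x) (tr y) := by
      intro x y
      obtain ⟨X, hX⟩ : ∃ X, X = ext0 (tr x) := ⟨_, rfl⟩
      obtain ⟨Y, hY⟩ : ∃ Y, Y = ext0 (tr y) := ⟨_, rfl⟩
      obtain ⟨c, hc⟩ : ∃ c, c = carry (tr x) (tr y) := ⟨_, rfl⟩
      obtain ⟨a, ha⟩ : ∃ a, a = last x := ⟨_, rfl⟩
      obtain ⟨b, hb⟩ : ∃ b, b = last y := ⟨_, rfl⟩
      obtain ⟨Z, hZ⟩ : ∃ Z, Z = ext0 (tr (x + y)) := ⟨_, rfl⟩
      have hx : X + top (n + 1) a = x := by rw [hX, ha]; exact decomp x
      have hy : Y + top (n + 1) b = y := by rw [hY, hb]; exact decomp y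
      have hXY : X + Y = Z + top (n + 1) c := by rw [hX, hY, hZ, hc, map_add]; exact ext0_add_ext0 _ _
      have hl : last (x + y) = c + a + b := by rw [hc, ha, hb]; exact last_add x y
      have h4 := hf₁.four X (top (n + 1) a) Y (top (n + 1) b)
      rw [hx, hy, hXY, ← top_add] at h4
      have h5 := hf₁.assoc Z (top (n + 1) c) (top (n + 1) (a + b))
      rw [← top_add, htop, ← add_assoc c a b] at h5
      rw [htop] at h4
      simp only [cob, u, g, ← hX, ← hY, ← hZ, ← hc, ← ha, ← hb, hl]
      rw [← map_add tr, ← hZ]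
      have e1 : f₁ x y = f₁ X Y + (H a + H b - H (a + b)) + f₁ (Z + top (n + 1) c) (top (n + 1) (a + b)) -
          f₁ X (top (n + 1) a) - f₁ Y (top (n + 1) b) := by rw [← h4]; abel
      have e2 : f₁ (Z + top (n + 1) c) (top (n + 1) (a + b)) =
          (H c + H (a + b) - H (c + a + b)) + f₁ Z (top (n + 1) (c + a + b)) - f₁ Z (top (n + 1) c) := by
        rw [← h5]; abel
      rw [e1, e2]
      abel
    have hH0 : H 0 = 0 := by
      have h := htop 0 0
      simp [show top (p := p) (n + 1) (0 : k) = 0 by rw [top, single_zero, map_zero], hf₁.zero] at h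
      exact h.symm
    have hu0 : u 0 = 0 := by
      simp only [u, map_zero, ext0_zero, show last (0 : TruncatedWittVector p (n + 2) k) = 0 from
        TruncatedWittVector.coeff_zero p (n + 2) k _, top, single_zero, hf₁.zero, hH0, sub_zero]
    have hgc : IsCoc g := by
      refine IsCoc.of_surj tr (fun x => ⟨ext0 x, truncate_ext0 x⟩) ?_
      simpa only [← hkey] using hf₁.add (isCoc_cob u hu0)
    obtain ⟨φ', h', hφ', hh', e'⟩ := ih g hg hgc
    refine ⟨φ, fun x => h' (tr x) - u x - single (φ' (last x)), hφ, ?_, fun x y => ?_⟩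
    · refine ((hh'.comp (isMor_truncate (p := p) (k := k) (Nat.le_succ (n + 1)))).sub hu).sub ?_
      simpa only [coeff_single] using hφ'.isMor.comp isMor_last
    · have h1 : f x y = f₁ x y + single (φ (carry x y)) := (sub_add_cancel _ _).symm
      have h2 : f₁ x y = g (tr x) (tr y) - cob u x y := eq_sub_of_add_eq (hkey x y)
      have h3 : single (p := p) (φ' (carry (tr x) (tr y))) =
          single (φ' (last (x + y))) - single (φ' (last x)) - single (φ' (last y)) := by
        rw [last_add, hφ'.map_add, hφ'.map_add, single_add, single_add]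
        show single (p := p) (φ' (carry (tr x) (tr y))) = _ + _ + _ - _ - _
        abel
      rw [h1, h2, e', h3]
      simp only [cob, map_add]
      abel

/-- Extensions of the additive group by `W_{n+1}`. -/
theorem classify₂ : ∀ (n : ℕ)
    (f : TruncatedWittVector p 1 k → TruncatedWittVector p 1 k → TruncatedWittVector p (n + 1) k)
    (_ : IsMor₂ f) (_ : IsCoc f), ∃ (ψ : k → k) (h : TruncatedWittVector p 1 k → TruncatedWittVector p (n + 1) k),
      AddP p ψ ∧ IsMor h ∧ ∀ x y, f x y = carryV n (ψ (x.coeff 0)) (ψ (y.coeff 0)) + cob h x y := by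
  intro n
  induction n with
  | zero =>
    intro f hm hf
    obtain ⟨φ, G, hφ, e⟩ := lazard₁ f hm hf
    obtain ⟨ψ, G', hψ, e'⟩ := hφ.exists_right
    refine ⟨ψ, _, hψ, isMor_single_eval (G' + G), fun x y => ?_⟩
    obtain ⟨a, rfl⟩ : ∃ a, x = single a := ⟨_, eq_single x⟩
    obtain ⟨b, rfl⟩ : ∃ b, y = single b := ⟨_, eq_single y⟩
    refine (sc p k).injective ?_
    simp only [cob, map_add, map_sub, sc_apply, coeff_single, coeff_add_one, e, e', head_carryV,
      Polynomial.eval_add]
    ring
  | succ n ih =>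
    intro f hm hf
    obtain ⟨φ, G, hφ, e⟩ := lazard₁ (fun x y => single ((f x y).coeff 0)) (isMor_head.comp₂ hm)
      (hf.map ((sc p k).symm.toAddMonoidHom.comp (head (n + 1))))
    obtain ⟨ψ, G', hψ, e'⟩ := hφ.exists_right
    let T : TruncatedWittVector p 1 k → TruncatedWittVector p (n + 2) k :=
      fun x => tau (n + 1) ((G' + G).eval (x.coeff 0))
    have hT : IsMor T := by
      simpa only [coeff_single] using (isMor_tau (n := n + 1)).comp (isMor_single_eval (p := p) (G' + G))
    let f₂ := fun x y : TruncatedWittVector p 1 k => f x y - carryV (n + 1) (ψ (x.coeff 0)) (ψ (y.coeff 0)) - cob T x y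
    have hψm : IsMor (fun x : TruncatedWittVector p 1 k => single (p := p) (ψ (x.coeff 0))) := hψ.isMor
    have hm₂ : IsMor₂ f₂ := by
      refine (hm.sub ?_).sub ((hT.comp₂ isMor₂_fst).add (hT.comp₂ isMor₂_snd) |>.sub (hT.comp₂ isMor₂_add))
      simpa only [coeff_single] using (isMor₂_carryV (n := n + 1)).left hψm hψm
    have hh0 : ∀ x y, (f₂ x y).coeff 0 = 0 := by
      intro x y
      show head (n + 1) (f₂ x y) = 0
      obtain ⟨a, rfl⟩ : ∃ a, x = single a := ⟨_, eq_single x⟩
      obtain ⟨b, rfl⟩ : ∃ b, y = single b := ⟨_, eq_single y⟩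
      have h := e a b
      simp only [coeff_single] at h
      simp only [f₂, T, cob, map_sub, map_add, head_apply, coeff_zero_tau, head_carryV, coeff_single,
        coeff_add_one, h, e', Polynomial.eval_add]
      ring
    have hT0 : T 0 = 0 := by
      have h := e 0 0
      simp only [single_zero, hf.zero, TruncatedWittVector.coeff_zero, e', hψ.hom.map_zero] at h
      have hψ0 : ψ 0 = 0 := hψ.hom.map_zero
      have hc : cpOf p (0 : k) 0 = 0 := by
        simpa [zero_pow hp.out.ne_zero] using cpOf_mul_left (p := p) (0 : k) 0 0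
      simp [hψ0, hc, cob] at h
      simp only [T, TruncatedWittVector.coeff_zero, Polynomial.eval_add]
      rw [show G'.eval 0 + G.eval 0 = 0 by linear_combination -h, tau_zero]
    have hcar : IsCoc (fun x y : TruncatedWittVector p 1 k =>
        carryV (p := p) (n + 1) (ψ (x.coeff 0)) (ψ (y.coeff 0))) :=
      (isCoc_carryV (p := p) (R := k) (n + 1)).comap (hψ.hom.comp (head (p := p) (R := k) 0))
    have hf₂ : IsCoc f₂ := (hf.sub hcar).sub (isCoc_cob T hT0)
    let g := fun x y : TruncatedWittVector p 1 k => unshift (f₂ x y)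
    have hg : ∀ x y, WittGrp.shift p (Nat.le_succ (n + 1)) (g x y) = f₂ x y := fun x y => shift_unshift (hh0 x y)
    have hgc : IsCoc g := by
      refine IsCoc.of_inj (WittGrp.shift p (Nat.le_succ (n + 1))) (WittHomLib.shift_inj _) ?_
      simpa only [hg] using hf₂
    obtain ⟨ψ', u, hψ', hu, eu⟩ := ih g (isMor_unshift.comp₂ hm₂) hgc
    refine ⟨ψ, fun x => T x + (tau (n + 1) (ψ' (x.coeff 0)) + WittGrp.shift p (Nat.le_succ (n + 1)) (u x)), hψ, ?_,
      fun x y => ?_⟩
    · refine hT.add (IsMor.add ?_ ((isMor_shift _).comp hu))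
      simpa only [coeff_single] using (isMor_tau (n := n + 1)).comp hψ'.isMor
    · have h1 : f x y = f₂ x y + carryV (n + 1) (ψ (x.coeff 0)) (ψ (y.coeff 0)) + cob T x y := by
        simp only [f₂]; abel
      rw [h1, ← hg, eu, map_add, shift_carryV]
      simp only [cob, coeff_add_one, hψ'.map_add, map_add, map_sub]
      abel

end Groth.Agent.WittExtLib
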