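import Groth.Agent.WittHomLib.Isog
import Groth.Agent.WittHomLib.Torus
import Groth.Agent.WittExtLib.Carry
import Groth.Agent.ASp.PropDescend
import Mathlib

/-! Morphisms of Witt groups as functions on rational points. -/

set_option autoImplicit false
set_option backward.isDefEq.respectTransparency false
universe u

open CategoryTheory CategoryTheory.Limits AlgebraicGeometry Opposite MonObj MonoidalCategory CartesianMonoidalCategory
open Groth.Agent.WittHomLib

noncomputable section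

namespace Groth.Agent.WittExtLib

variable {p : ℕ} [hp : Fact p.Prime] {k : Type u} [Field k]

local notation "B" => Spec (CommRingCat.of k)
local notation "𝕍" n:max => TruncatedWittVector p n k

/-- A rational point as a Witt vector over the field. -/
def pv {n : ℕ} (x : Pt p k n) : 𝕍 n := WittGrp.truncMap p n (κ p k).toRingHom (vec x)

theorem coeff_pv {n : ℕ} (x : Pt p k n) (i : Fin n) : (pv x).coeff i = cv x i :=
  WittGrp.coeff_truncMap _ _ _ _ _

/-- The point of a Witt vector. -/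
def pt {n : ℕ} (v : 𝕍 n) : Pt p k n := mkPt v.coeff

theorem pv_pt {n : ℕ} (v : 𝕍 n) : pv (pt v) = v :=
  TruncatedWittVector.ext fun i => by rw [coeff_pv, pt, cv_mkPt]

theorem pv_injective {n : ℕ} : Function.Injective (pv (p := p) (k := k) (n := n)) := fun x y h =>
  cv_injective (funext fun i => by rw [← coeff_pv, h, coeff_pv])

theorem pt_pv {n : ℕ} (x : Pt p k n) : pt (pv x) = x := pv_injective (pv_pt _)

theorem pv_mul {n : ℕ} (x y : Pt p k n) : pv (x * y) = pv x + pv y := by rw [pv, vec_mul, map_add]; rfl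

theorem pv_one {n : ℕ} : pv (1 : Pt p k n) = 0 := by rw [pv, vec_one, map_zero]

theorem pv_div {n : ℕ} (x y : Pt p k n) : pv (x / y) = pv x - pv y :=
  eq_sub_of_add_eq (by rw [← pv_mul, div_mul_cancel])

theorem pv_R {n m : ℕ} (h : n ≤ m) (x : Pt p k m) :
    pv (x ≫ WittGrp.R p B h) = TruncatedWittVector.truncate h (pv x) := by
  rw [pv, vec_R, WittGrp.truncMap_truncateLE]; rfl

theorem pv_V {n m : ℕ} (h : n ≤ m) (x : Pt p k n) :
    pv (x ≫ WittGrp.V p B h) = WittGrp.shift p h (pv x) := by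
  rw [pv, vec_V, WittGrp.truncMap_shift]; rfl

theorem pt_add {n : ℕ} (v w : 𝕍 n) : pt (v + w) = pt v * pt w :=
  pv_injective (by rw [pv_mul, pv_pt, pv_pt, pv_pt])

theorem pt_zero {n : ℕ} : pt (0 : 𝕍 n) = 1 := pv_injective (by rw [pv_pt, pv_one])

/-- A morphism as a function on Witt vectors over the field. -/
def app {n m : ℕ} (g : WittGrp.W p n B ⟶ WittGrp.W p m B) (v : 𝕍 n) : 𝕍 m := pv (pt v ≫ g)

theorem app_pv {n m : ℕ} (g : WittGrp.W p n B ⟶ WittGrp.W p m B) (x : Pt p k n) :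
    app g (pv x) = pv (x ≫ g) := by rw [app, pt_pv]

theorem app_id {n : ℕ} (v : 𝕍 n) : app (𝟙 (WittGrp.W p n B)) v = v := by rw [app, Category.comp_id, pv_pt]

theorem app_comp {n m l : ℕ} (g : WittGrp.W p n B ⟶ WittGrp.W p m B) (g' : WittGrp.W p m B ⟶ WittGrp.W p l B)
    (v : 𝕍 n) : app (g ≫ g') v = app g' (app g v) := by simp only [app, pt_pv, Category.assoc]

theorem app_mul {n m : ℕ} (g g' : WittGrp.W p n B ⟶ WittGrp.W p m B) (v : 𝕍 n) :
    app (g * g') v = app g v + app g' v := by rw [app, MonObj.comp_mul, pv_mul]; rfl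

theorem app_one {n m : ℕ} (v : 𝕍 n) : app (1 : WittGrp.W p n B ⟶ WittGrp.W p m B) v = 0 := by
  rw [app, MonObj.comp_one, pv_one]

theorem app_div {n m : ℕ} (g g' : WittGrp.W p n B ⟶ WittGrp.W p m B) (v : 𝕍 n) :
    app (g / g') v = app g v - app g' v :=
  eq_sub_of_add_eq (by rw [← app_mul, div_mul_cancel])

theorem app_R {n m : ℕ} (h : n ≤ m) (v : 𝕍 m) :
    app (WittGrp.R p B h) v = TruncatedWittVector.truncate h v := by rw [app, pv_R, pv_pt]

theorem app_V {n m : ℕ} (h : n ≤ m) (v : 𝕍 n) :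
    app (WittGrp.V p B h) v = WittGrp.shift p h v := by rw [app, pv_V, pv_pt]

theorem app_hom_add {n m : ℕ} (g : WittGrp.W p n B ⟶ WittGrp.W p m B) [IsMonHom g] (v w : 𝕍 n) :
    app g (v + w) = app g v + app g w := by rw [app, pt_add, MonObj.mul_comp, pv_mul]; rfl

/-- A function of Witt vectors given by a morphism. -/
def IsMor {n m : ℕ} (f : 𝕍 n → 𝕍 m) : Prop := ∃ g : WittGrp.W p n B ⟶ WittGrp.W p m B, app g = f

/-- A function of two Witt vectors given by a morphism. -/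
def IsMor₂ {n m : ℕ} (f : 𝕍 n → 𝕍 n → 𝕍 m) : Prop :=
  ∃ g : WittGrp.W p (n + n) B ⟶ WittGrp.W p m B, ∀ x y : Pt p k n, pv (catPt x y ≫ g) = f (pv x) (pv y)

theorem comp_catPt {n : ℕ} {T T' : Over B} (t : T' ⟶ T) (x y : T ⟶ WittGrp.W p n B) :
    t ≫ catPt x y = catPt (t ≫ x) (t ≫ y) := by
  refine vec_injective (TruncatedWittVector.ext fun i => ?_)
  rw [vec_comp, WittGrp.coeff_truncMap, catPt, catPt, vec_ofVec, vec_ofVec, TruncatedWittVector.coeff_mk,
    TruncatedWittVector.coeff_mk]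
  induction i using Fin.addCases with
  | left j => rw [Fin.append_left, Fin.append_left, vec_comp, WittGrp.coeff_truncMap]
  | right j => rw [Fin.append_right, Fin.append_right, vec_comp, WittGrp.coeff_truncMap]

theorem catPt_eta {n : ℕ} {T : Over B} (z : T ⟶ WittGrp.W p (n + n) B) :
    catPt (z ≫ pr₁ n) (z ≫ pr₂ n) = z := by
  refine vec_injective (TruncatedWittVector.ext fun i => ?_)
  rw [catPt, vec_ofVec, TruncatedWittVector.coeff_mk]
  induction i using Fin.addCases with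
  | left j => rw [Fin.append_left, coeff_comp, pr₁, vec_ofVec, TruncatedWittVector.coeff_mk, ← coeff_vec]
  | right j => rw [Fin.append_right, coeff_comp, pr₂, vec_ofVec, TruncatedWittVector.coeff_mk, ← coeff_vec]

section Closure

variable {n m l : ℕ}

theorem isMor_id : IsMor (fun v : 𝕍 n => v) := ⟨𝟙 _, funext app_id⟩

theorem isMor_zero : IsMor (fun _ : 𝕍 n => (0 : 𝕍 m)) := ⟨1, funext app_one⟩

theorem IsMor.add {f f' : 𝕍 n → 𝕍 m} (hf : IsMor f) (hf' : IsMor f') : IsMor (fun v => f v + f' v) := by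
  obtain ⟨g, rfl⟩ := hf; obtain ⟨g', rfl⟩ := hf'
  exact ⟨g * g', funext (app_mul g g')⟩

theorem IsMor.sub {f f' : 𝕍 n → 𝕍 m} (hf : IsMor f) (hf' : IsMor f') : IsMor (fun v => f v - f' v) := by
  obtain ⟨g, rfl⟩ := hf; obtain ⟨g', rfl⟩ := hf'
  exact ⟨g / g', funext (app_div g g')⟩

theorem IsMor.neg {f : 𝕍 n → 𝕍 m} (hf : IsMor f) : IsMor (fun v => -f v) := by
  simpa only [zero_sub] using isMor_zero.sub hf

theorem IsMor.comp {f : 𝕍 m → 𝕍 l} {f' : 𝕍 n → 𝕍 m} (hf : IsMor f) (hf' : IsMor f') :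
    IsMor (fun v => f (f' v)) := by
  obtain ⟨g, rfl⟩ := hf; obtain ⟨g', rfl⟩ := hf'
  exact ⟨g' ≫ g, funext (app_comp g' g)⟩

theorem isMor_truncate (h : n ≤ m) : IsMor (fun v : 𝕍 m => TruncatedWittVector.truncate h v) :=
  ⟨WittGrp.R p B h, funext (app_R h)⟩

theorem isMor_shift (h : n ≤ m) : IsMor (fun v : 𝕍 n => WittGrp.shift p h v) :=
  ⟨WittGrp.V p B h, funext (app_V h)⟩

theorem isMor₂_fst : IsMor₂ (fun x _ : 𝕍 n => x) :=
  ⟨pr₁ n, fun x y => by rw [catPt_pr₁]⟩

theorem isMor₂_snd : IsMor₂ (fun _ y : 𝕍 n => y) :=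
  ⟨pr₂ n, fun x y => by rw [catPt_pr₂]⟩

theorem IsMor₂.add {f f' : 𝕍 n → 𝕍 n → 𝕍 m} (hf : IsMor₂ f) (hf' : IsMor₂ f') :
    IsMor₂ (fun x y => f x y + f' x y) := by
  obtain ⟨g, hg⟩ := hf; obtain ⟨g', hg'⟩ := hf'
  exact ⟨g * g', fun x y => by rw [MonObj.comp_mul, pv_mul, hg, hg']⟩

theorem IsMor₂.sub {f f' : 𝕍 n → 𝕍 n → 𝕍 m} (hf : IsMor₂ f) (hf' : IsMor₂ f') :
    IsMor₂ (fun x y => f x y - f' x y) := by
  obtain ⟨g, hg⟩ := hf; obtain ⟨g', hg'⟩ := hf'
  exact ⟨g / g', fun x y => by rw [div_eq_mul_inv, MonObj.comp_mul, GrpObj.comp_inv, ← div_eq_mul_inv, pv_div, hg, hg']⟩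

theorem IsMor.comp₂ {f : 𝕍 m → 𝕍 l} {f' : 𝕍 n → 𝕍 n → 𝕍 m} (hf : IsMor f) (hf' : IsMor₂ f') :
    IsMor₂ (fun x y => f (f' x y)) := by
  obtain ⟨g, rfl⟩ := hf; obtain ⟨g', hg'⟩ := hf'
  exact ⟨g' ≫ g, fun x y => by rw [← Category.assoc, ← app_pv, hg']⟩

theorem IsMor₂.comp {f : 𝕍 m → 𝕍 m → 𝕍 l} {a b : 𝕍 n → 𝕍 m} (hf : IsMor₂ f) (ha : IsMor a) (hb : IsMor b) :
    IsMor (fun v => f (a v) (b v)) := by
  obtain ⟨g, hg⟩ := hf; obtain ⟨ga, rfl⟩ := ha; obtain ⟨gb, rfl⟩ := hb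
  refine ⟨catPt ga gb ≫ g, funext fun v => ?_⟩
  rw [app, ← Category.assoc, comp_catPt, hg]
  rfl

theorem IsMor₂.comp₂ {f : 𝕍 m → 𝕍 m → 𝕍 l} {a b : 𝕍 n → 𝕍 n → 𝕍 m} (hf : IsMor₂ f) (ha : IsMor₂ a)
    (hb : IsMor₂ b) : IsMor₂ (fun x y => f (a x y) (b x y)) := by
  obtain ⟨g, hg⟩ := hf; obtain ⟨ga, hga⟩ := ha; obtain ⟨gb, hgb⟩ := hb
  refine ⟨catPt ga gb ≫ g, fun x y => ?_⟩
  rw [← Category.assoc, comp_catPt, hg, hga, hgb]

theorem IsMor₂.left {f : 𝕍 m → 𝕍 m → 𝕍 l} {a b : 𝕍 n → 𝕍 m} (hf : IsMor₂ f) (ha : IsMor a) (hb : IsMor b) :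
    IsMor₂ (fun x y => f (a x) (b y)) :=
  hf.comp₂ (ha.comp₂ isMor₂_fst) (hb.comp₂ isMor₂_snd)

theorem isMor₂_add : IsMor₂ (fun x y : 𝕍 n => x + y) := isMor₂_fst.add isMor₂_snd

end Closure

/-- Two morphisms from a smooth scheme agreeing on rational points are equal. -/
theorem hom_ext_pts [IsAlgClosed k] {X Y : Over B} [Smooth X.hom] [IsSeparated Y.hom] [LocallyOfFiniteType Y.hom]
    {f g : X ⟶ Y} (h : ∀ σ : WittGrp.W p 0 B ⟶ X, σ ≫ f = σ ≫ g) : f = g := by
  haveI : IsReduced X.left := Groth.Agent.ASp.isReduced_of_smooth X.hom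
  haveI : LocallyOfFiniteType (f.left ≫ Y.hom) := by rw [Over.w f]; infer_instance
  ext : 1
  refine ext_of_apply_eq Y.hom Set.univ isClosed_univ.isLocallyClosed dense_univ (fun x _ hx => ?_) ?_
  · obtain ⟨σ, hσ⟩ := exists_ptImage (k := k) (p := p) (N := X) hx
    rw [← hσ, ← ptImage_comp, ← ptImage_comp, h]
  · rw [Over.w f, Over.w g]

/-- A map of groups which is additive on rational points is a homomorphism. -/
theorem isMonHom_of_pts [IsAlgClosed k] {X Y : Over B} [GrpObj X] [GrpObj Y] [Smooth X.hom]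
    [IsSeparated Y.hom] [LocallyOfFiniteType Y.hom] (g : X ⟶ Y)
    (h : ∀ x y : WittGrp.W p 0 B ⟶ X, (x * y) ≫ g = (x ≫ g) * (y ≫ g)) : IsMonHom g := by
  haveI : Smooth (X ⊗ X).hom := by
    rw [Over.tensorObj_hom]
    exact MorphismProperty.comp_mem _ _ _ (MorphismProperty.pullback_fst _ _ ‹Smooth X.hom›) ‹Smooth X.hom›
  have hu : (fst X X * snd X X) ≫ g = (fst X X ≫ g) * (snd X X ≫ g) :=
    hom_ext_pts (p := p) fun σ => by
      rw [← Category.assoc, MonObj.comp_mul, h, MonObj.comp_mul, Category.assoc, Category.assoc]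
  refine isMonHom_of_mul g fun T x y => ?_
  have := congrArg (fun t => lift x y ≫ t) hu
  simp only [← Category.assoc, MonObj.comp_mul, lift_fst, lift_snd] at this
  exact this

instance isSeparated_W (n : ℕ) : IsSeparated (WittGrp.W p n B).hom :=
  haveI := isAffineHom_W (p := p) (k := k) n
  inferInstance

section Poly

variable [CharP k p] {n m : ℕ}

/-- The morphism with given coordinate polynomials. -/
def ofPoly (P : Fin m → MvPolynomial (Fin n) k) : WittGrp.W p n B ⟶ WittGrp.W p m B :=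
  ofVec (TruncatedWittVector.mk p fun i => (coordEquiv p n k).inv (MvPolynomial.rename ULift.up (P i)))

theorem coeff_app_ofPoly (P : Fin m → MvPolynomial (Fin n) k) (v : 𝕍 n) (i : Fin m) :
    (app (ofPoly P) v).coeff i = MvPolynomial.eval v.coeff (P i) := by
  rw [app, coeff_pv, cv_comp, ofPoly, vec_ofVec, TruncatedWittVector.coeff_mk,
    ← CommRingCat.comp_apply, Iso.inv_hom_id, CommRingCat.id_apply, MvPolynomial.aeval_rename, pt, cv_mkPt]
  rw [MvPolynomial.aeval_eq_eval]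
  rfl

theorem isMor_of_poly (f : 𝕍 n → 𝕍 m) (P : Fin m → MvPolynomial (Fin n) k)
    (h : ∀ v i, (f v).coeff i = MvPolynomial.eval v.coeff (P i)) : IsMor f :=
  ⟨ofPoly P, funext fun v => TruncatedWittVector.ext fun i => by rw [coeff_app_ofPoly, h]⟩

theorem exists_poly₂ {f : 𝕍 1 → 𝕍 1 → 𝕍 1} (hf : IsMor₂ f) :
    ∃ P : MvPolynomial (Fin 2) k, ∀ a b, (f (single a) (single b)).coeff 0 = MvPolynomial.eval ![a, b] P := by
  obtain ⟨g, hg⟩ := hf
  refine ⟨MvPolynomial.rename ULift.down ((coordEquiv p (1 + 1) k).hom ((vec g).coeff 0)), fun a b => ?_⟩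
  have h := hg (pt (single a)) (pt (single b))
  rw [pv_pt, pv_pt] at h
  rw [← h, coeff_pv, cv_comp, MvPolynomial.eval_rename, MvPolynomial.aeval_eq_eval]
  refine congrArg (fun w : ULift.{u} (Fin (1 + 1)) → k => MvPolynomial.eval w _) (funext fun j => ?_)
  rw [cv, catPt, vec_ofVec, TruncatedWittVector.coeff_mk, Function.comp_apply]
  obtain ⟨j⟩ := j
  fin_cases j
  · show κ p k (Fin.append _ _ (Fin.castAdd 1 (0 : Fin 1))) = a
    rw [Fin.append_left]
    show cv _ 0 = a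
    rw [pt, cv_mkPt, coeff_single]
  · show κ p k (Fin.append _ _ (Fin.natAdd 1 (0 : Fin 1))) = b
    rw [Fin.append_right]
    show cv _ 0 = b
    rw [pt, cv_mkPt, coeff_single]

theorem isMor_single_eval (G : Polynomial k) : IsMor (fun x : 𝕍 1 => single (p := p) (G.eval (x.coeff 0))) :=
  isMor_of_poly _ (fun _ => Polynomial.aeval (MvPolynomial.X 0) G) fun v i => by
    rw [coeff_single]
    induction G using Polynomial.induction_on' with
    | add f g hf hg => rw [Polynomial.eval_add, map_add, map_add, hf, hg]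
    | monomial d c => simp [Polynomial.aeval_monomial]

theorem isMor_ext0 : IsMor (fun v : 𝕍 n => ext0 v) :=
  isMor_of_poly _ (Fin.snoc (fun i => MvPolynomial.X i) 0) fun v i => by
    induction i using Fin.lastCases with
    | last => simp [show (ext0 v).coeff (Fin.last n) = 0 from last_ext0 v]
    | cast i => simp [coeff_ext0_castSucc]

theorem isMor_last : IsMor (fun v : 𝕍 (n + 1) => single (p := p) (last v)) :=
  isMor_of_poly _ (fun _ => MvPolynomial.X (Fin.last n)) fun v i => by simp [last]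

theorem isMor_head : IsMor (fun v : 𝕍 (n + 1) => single (p := p) (v.coeff 0)) :=
  isMor_of_poly _ (fun _ => MvPolynomial.X 0) fun v i => by simp

theorem isMor_tau : IsMor (fun v : 𝕍 1 => tau (p := p) n (v.coeff 0)) :=
  isMor_of_poly _ (Fin.cons (MvPolynomial.X 0) fun _ => 0) fun v i => by
    rw [tau, TruncatedWittVector.coeff_mk]
    induction i using Fin.cases with
    | zero => simp
    | succ i => simp

theorem isMor_unshift : IsMor (fun v : 𝕍 (n + 1) => unshift v) :=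
  isMor_of_poly _ (fun i => MvPolynomial.X i.succ) fun v i => by simp [unshift]

theorem isMor_top : IsMor (fun v : 𝕍 1 => top (p := p) n (v.coeff 0)) := by
  simpa only [top, ← eq_single] using isMor_shift (p := p) (k := k) (Nat.le_add_left 1 n)

theorem isMor₂_carry : IsMor₂ (fun x y : 𝕍 n => single (p := p) (carry x y)) :=
  isMor_last.comp₂ (isMor₂_add.left isMor_ext0 isMor_ext0)

theorem isMor₂_carryV : IsMor₂ (fun x y : 𝕍 1 => carryV (p := p) n (x.coeff 0) (y.coeff 0)) := by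
  have h := isMor_unshift.comp₂
    (((isMor₂_add (p := p) (k := k)).left (isMor_tau (n := n + 1)) (isMor_tau (n := n + 1))).sub
      ((isMor_tau (n := n + 1)).comp₂ (isMor₂_add (p := p) (k := k) (n := 1))))
  simpa only [carryV, coeff_add_one] using h

end Poly

end Groth.Agent.WittExtLib
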